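import Groth.Agent.Fano.K560.NormP1
import Groth.Agent.Fano.K715.LciLift
import Groth.Agent.Deform.K723.NormalHilb
import Groth.Agent.Omega.K935.SmoothImm
import Groth.Agent.Sga5.ProjSmooth

/-!
# The Hilbert scheme at a regularly embedded closed subscheme with `H¹(N) = 0`

* `regular_of`: `X` proper over `k`, `i : C ⟶ X` a regular closed immersion with `H¹(C, N) = 0`: the Hilbert scheme
  is regular of dimension `h⁰(N)` at `[C]`;
* `regular_of_conormal`: `C = P^1` with split conormal sheaf on a smooth cubic threefold.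
-/

set_option autoImplicit false
universe u
open CategoryTheory CategoryTheory.Limits AlgebraicGeometry TopologicalSpace Opposite

namespace K560.RegPt

open Groth.Agent.Fano.K714.Rat

variable {k : Type u} [Field k]

/-- Regularity of a closed immersion only depends on its image. -/
theorem isRegular_ker {X Y : Scheme.{u}} (i : X ⟶ Y) [IsClosedImmersion i]
    (hreg : Mor2.IsRegularClosedImmersion i) : Mor2.IsRegularClosedImmersion i.ker.subschemeι := by
  rw [Groth.Agent.Divis.RegImm.isRegularClosedImmersion_iff] at hreg ⊢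
  refine ⟨inferInstance, fun z => ?_⟩
  rw [i.ker.ker_subschemeι]
  have h1 : i.ker.subschemeι z ∈ Set.range i.ker.subschemeι.base := ⟨z, rfl⟩
  rw [Scheme.IdealSheafData.range_subschemeι, Scheme.Hom.support_ker,
    i.isClosedEmbedding.isClosed_range.closure_eq] at h1
  obtain ⟨c, hc⟩ := h1
  have h2 := hreg.2 c
  rwa [show i c = i.ker.subschemeι z from hc] at h2

theorem regular_of {C X : Scheme.{u}} [C.Over (Spec (CommRingCat.of k))] (i : C ⟶ X) [IsClosedImmersion i]
    (x : X ⟶ Spec (CommRingCat.of k)) [IsProper x] (hi : i ≫ x = C ↘ Spec (CommRingCat.of k))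
    (H : Over (Spec (CommRingCat.of k))) (Z : FGA.HilbSet x H) (hH : FGA.HilbRepresentedBy x H Z)
    (hreg : Mor2.IsRegularClosedImmersion i) [DCoh.HasSheafHom (Omega.conormal i)]
    (h1 : Subsingleton (Coh.HH C ((DCoh.sheafHom (Omega.conormal i)).obj (Coh.structureModule C)) 1))
    (h : pt k ⟶ H) (hh : FGA.hilbPull x h Z.1 = i.ker.comap (pullback.fst x (pt k).hom)) :
    IsRegularLocalRing (H.left.presheaf.stalk (h.left.base (IsLocalRing.closedPoint k))) ∧
      ringKrullDim (H.left.presheaf.stalk (h.left.base (IsLocalRing.closedPoint k))) =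
        (Module.finrank k (Coh.HH C ((DCoh.sheafHom (Omega.conormal i)).obj (Coh.structureModule C)) 0) :
          WithBot ℕ∞) := by
  refine K723.NormalHilb.regular_eq i x hi Z hH h hh ?_
  refine K723.NormalHilb.isSmoothFunctor_of_semismall fun p hp => ?_
  let : i.ker.subscheme.Over (Spec (CommRingCat.of k)) := ⟨i.ker.subschemeι ≫ x⟩
  have := Groth.Agent.Sga2.PnHomAdj.hasSheafHom (Omega.conormal i.ker.subschemeι)
  obtain ⟨e⟩ := K723.NormalHilb.nonempty_HH_ker i x hi 1
  exact K715.LciLift.surjective_localHilb X x i.ker hp (isRegular_ker i hreg) e.symm.toEquiv.subsingleton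

theorem regular_of_conormal [IsAlgClosed k] [CharZero k] (f : LefPen.Form 4 k 3) (_hf : f ≠ 0)
    [Smooth (ps f)] (H : Over (Spec (CommRingCat.of k))) (Z : FGA.HilbSet (ps f) H)
    (hH : FGA.HilbRepresentedBy (ps f) H Z)
    (i : CohB1.ProjSpace 1 k ⟶ Xf f) [IsClosedImmersion i]
    (hi : i ≫ ps f = CohB1.ProjSpace.toSpec 1 k)
    (h : pt k ⟶ H) (hh : FGA.hilbPull (ps f) h Z.1 = i.ker.comap (pullback.fst (ps f) (pt k).hom))
    (a : Fin 2 → ℤ) (ha : ∀ j, a j ≤ 1) (n : ℕ) (hn : (n : ℤ) = 2 - a 0 - a 1)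
    (e : Nonempty (Omega.conormal i ≅ ∐ fun j : Fin 2 => Twist.twistProjSpace 1 k (a j))) :
    IsRegularLocalRing (H.left.presheaf.stalk (h.left.base (IsLocalRing.closedPoint k))) ∧
      ringKrullDim (H.left.presheaf.stalk (h.left.base (IsLocalRing.closedPoint k))) = n := by
  have hp : IsProper (ps f) := inferInstance
  have hs : Smooth (i ≫ ps f) := by
    rw [hi]
    have := Groth.Agent.Sga5.ProjSmooth.smooth_toSpec (n := 1) (R := k)
    exact SmoothOfRelativeDimension.smooth 1 _
  have hreg := K935.SmoothImm.isRegularClosedImmersion i (ps f)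
  obtain ⟨h1, h2⟩ := NormP1.normal i a ha e
  have h3 := regular_of i (ps f) hi H Z hH hreg h1 h hh
  refine ⟨h3.1, h3.2.trans ?_⟩
  have h4 : Module.finrank k (Coh.HH (CohB1.ProjSpace 1 k)
        ((DCoh.sheafHom (Omega.conormal i)).obj (Coh.structureModule (CohB1.ProjSpace 1 k))) 0) = n := by
    omega
  rw [h4]

end K560.RegPt
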