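import Groth.Agent.Fano.K287.ConDeg
import Groth.Agent.Fano.K560.RegPt
import Groth.Agent.Surf.K461.SerreLF
import Groth.Agent.S7831
import Groth.Agent.S7638
import Groth.Agent.Coherent.K47.LinkEuler
import Groth.Agent.Fdesc.GeomAlgClosed
import Groth.Agent.VBCurve.K708.HomH0

/-!
# The Hilbert scheme of a cubic threefold at an elliptic curve

`i : C ⟶ X` a smooth elliptic curve of degree `d` on a smooth cubic threefold, `H⁰(C, conormal) = 0`: the Hilbert
scheme of `X` is regular of dimension `2 d` at `[C]`.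

* `deg_conormal`: the conormal module has degree `-2 d`;
* `finrank_normal`: `h⁰(N) = 2 d` and `H¹(N) = 0`;
* `regular_ell`: the Hilbert scheme is regular of dimension `2 d` at `[C]`.
-/

set_option autoImplicit false
universe u
open CategoryTheory CategoryTheory.Limits AlgebraicGeometry TopologicalSpace Opposite

namespace K560.EllReg

open Groth.Agent Groth.Agent.Fano.K714.Rat Groth.Agent.Grpsch.PicGrp Groth.Agent.Lefpen.H21.PicTwist
  Groth.Agent.Fano.K287.ConDeg

variable {k : Type u} [Field k] [IsAlgClosed k] (f : LefPen.Form 4 k 3) (hf : f ≠ 0)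
    [Smooth (ps f)] {C : Scheme.{u}} [C.Over (Spec (CommRingCat.of k))]
    [IsProper (C ↘ Spec (CommRingCat.of k))] [Smooth (C ↘ Spec (CommRingCat.of k))] [IsIntegral C]
    (hdim : topologicalKrullDim C = 1)
    (i : C ⟶ Xf f) [IsClosedImmersion i] (hi : i ≫ ps f = C ↘ Spec (CommRingCat.of k))

include hdim in
omit [IsProper (C ↘ Spec (CommRingCat.of k))] in
theorem relDim_one : SmoothOfRelativeDimension 1 (C ↘ Spec (CommRingCat.of k)) :=
  K457.Smooth.relDim_of_regular k C 1 hdim (fun x => S1535.result k C x)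

include hf hi hdim in
omit [IsProper (C ↘ Spec (CommRingCat.of k))] in
theorem locFree_conormal : FlatMod.IsFinLocFreeOfRank 2 (Omega.conormal i) := by
  have hne : Nonempty (Xf f) := (inferInstance : Nonempty C).map i
  have h3 := relDim_three f hf
  have h1 : SmoothOfRelativeDimension 1 (i ≫ ps f) := by
    rw [hi]; exact relDim_one hdim
  have hs1 : Smooth (i ≫ ps f) := SmoothOfRelativeDimension.smooth 1 _
  exact K935.SmoothImm.isFinLocFreeOfRank_conormal i (ps f) (r := 2) (by norm_num)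
    (Groth.Agent.Dual.H339.OmegaRank.isFinLocFreeOfRank_omega 3 (ps f))
    (Groth.Agent.Dual.H339.OmegaRank.isFinLocFreeOfRank_omega 1 (i ≫ ps f))

include hf hi hdim in
/-- adjunction: `det (conormal) = O_C(-2)` when `ω_C = O_C` -/
theorem nonempty_det (hω : Nonempty (Omega.sheaf (C ↘ (Spec (CommRingCat.of k))) ≅ Coh.structureModule C))
    {L : C.Modules} (hL : ExtPow.IsExtPow 2 (Omega.conormal i) L) :
    Nonempty (L ≅ (Scheme.Modules.pullback (i ≫ emb f)).obj (Twist.twistProjSpace 4 k (-2))) := by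
  have hne : Nonempty (Xf f) := (inferInstance : Nonempty C).map i
  have h3 := relDim_three f hf
  have hC := locFree_conormal f hf hdim i hi
  have h1 := relDim_one (k := k) hdim
  have hP : IsProper (CohB1.ProjSpace.toSpec 4 k) := Groth.Agent.Ega3B.ProjProper.isProper_toSpec 4 k
  have hr3 := Groth.Agent.Dual.H339.OmegaRank.isFinLocFreeOfRank_omega 3 (ps f)
  have ex : ∀ {Z : Scheme.{u}} {n : ℕ} {E : Z.Modules} (_ : FlatMod.IsFinLocFreeOfRank n E),
      ∃ D : Z.Modules, ExtPow.IsExtPow n E D := fun {Z n E} h =>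
    Groth.Agent.Dual.H366.ExtQCoh.exists_isExtPow n
      (Groth.Agent.Ega2.QCohLocal.isQCoh_of_isFinLocFree (Groth.Agent.Krr.H487.KerRank.isFinLocFree_of_rank h))
  obtain ⟨W, hW⟩ := ex hr3
  have hWi := K287.OmegaPn.isInvertible_extPow hr3 hW
  have hLi := K287.OmegaPn.isInvertible_extPow hC hL
  have hw := K287.Hyp.mk_omega f (fun h => hf (Subtype.ext h)) 3 rfl hW hWi
  obtain ⟨-, ⟨e⟩⟩ := Groth.Agent.S7772.result _ _ _ (ps f) (C ↘ (Spec (CommRingCat.of k))) 3 1 (by norm_num) i hi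
    W hW (Omega.sheaf (C ↘ (Spec (CommRingCat.of k)))) (Groth.Agent.Sga67.TensorOps.isExtPow_one _) L hL
  obtain ⟨ω⟩ := hω
  have hVi : PicF.IsInvertible (Omega.sheaf (C ↘ (Spec (CommRingCat.of k)))) :=
    K287.OmegaPn.isInvertible_of_rank (Groth.Agent.Dual.H339.OmegaRank.isFinLocFreeOfRank_omega 1 _)
  have h4 : pull i (mk W hWi) = mk _ hVi * mk L hLi := by
    rw [pull_mk, mk_mul_mk]
    exact mk_congr e
  have h5 : mk _ hVi = 1 := (mk_eq_one_iff hVi).2 ⟨ω⟩
  have h6 : pull i (hyp (emb f)) = hyp (i ≫ emb f) := (pull_comp i (emb f) _).symm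
  rw [hw, map_zpow, h6, h5, one_mul] at h4
  have h7 : mk L hLi = hyp (i ≫ emb f) ^ (-2 : ℤ) := by
    rw [← h4]; norm_num
  rwa [mk_eq_hyp_zpow_iff] at h7

include hf hi hdim in
theorem deg_conormal (hω : Nonempty (Omega.sheaf (C ↘ (Spec (CommRingCat.of k))) ≅ Coh.structureModule C)) :
    Curv2.deg k C (Omega.conormal i) 2 = -2 * Curv2.deg k C ((Scheme.Modules.pullback (i ≫ emb f)).obj
      (Twist.twistProjSpace 4 k 1)) 1 := by
  have hC := locFree_conormal f hf hdim i hi
  obtain ⟨L, hL⟩ := Groth.Agent.Dual.H366.ExtQCoh.exists_isExtPow 2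
      (Groth.Agent.Ega2.QCohLocal.isQCoh_of_isFinLocFree (Groth.Agent.Krr.H487.KerRank.isFinLocFree_of_rank hC))
  obtain ⟨e⟩ := nonempty_det f hf hdim i hi hω hL
  rw [S7638.result k C hdim.le 2 _ hC L hL]
  rw [CurvesC.DegIso.deg_congr k e 1]
  exact Coherent.K47.LinkEuler.deg_twist k C hdim.le (i ≫ emb f) (-2)

include hf hi hdim in
/-- `H¹(C, N) = 0` and `h⁰(C, N) = 2 deg C` for a genus one curve whose conormal module has no sections. -/
theorem normal (hg : Curv2.genus k C = 1) (h0 : Subsingleton (Coh.HH C (Omega.conormal i) 0))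
    [DCoh.HasSheafHom (Omega.conormal i)] :
    Subsingleton (Coh.HH C ((DCoh.sheafHom (Omega.conormal i)).obj (Coh.structureModule C)) 1) ∧
    (Module.finrank k (Coh.HH C ((DCoh.sheafHom (Omega.conormal i)).obj (Coh.structureModule C)) 0) : ℤ) =
      2 * Curv2.deg k C ((Scheme.Modules.pullback (i ≫ emb f)).obj (Twist.twistProjSpace 4 k 1)) 1 := by
  have hc : GeometricallyConnected (C ↘ Spec (CommRingCat.of k)) :=
    Fdesc.GeomAlgClosed.geometricallyConnected_of_connectedSpace _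
  have hs1 := relDim_one (k := k) hdim
  obtain ⟨ω⟩ := S7831.result k C hdim hg
  have hC := locFree_conormal f hf hdim i hi
  have hC' := Groth.Agent.Krr.H487.KerRank.isFinLocFree_of_rank hC
  have hW : ExtPow.IsExtPow 1 (Omega.sheaf (C ↘ Spec (CommRingCat.of k))) (Coh.structureModule C) :=
    Krr.H487.ExtPull.isExtPow_of_iso (Groth.Agent.Sga67.TensorOps.isExtPow_one _) ω
  have e1 := K461.SerreLF.nonempty_dual_equiv k 1 hW hC' 1 0 rfl
  have e0 := K461.SerreLF.finrank_eq k 1 hW hC' 0 1 rfl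
  have hd := deg_conormal f hf hdim i hi ⟨ω⟩
  obtain ⟨e1⟩ := e1
  refine ⟨e1.symm.toEquiv.subsingleton, ?_⟩
  rw [← e0]
  have h3 : Module.finrank k (Coh.HH C (Omega.conormal i) 0) = 0 := Module.finrank_zero_of_subsingleton
  have h4 : Curv2.euler k C (Coh.structureModule C) = 0 := by
    rw [CurvesC.CurveCoh.euler_eq k C hdim, K317.SmoothCurve.h0_eq_one k C,
      show Module.finrank k (Coh.HH C (Coh.structureModule C) 1) = 1 from hg]
    norm_num
  have h5 : Curv2.euler k C (Omega.conormal i) = - (Module.finrank k (Coh.HH C (Omega.conormal i) 1) : ℤ) := by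
    rw [CurvesC.CurveCoh.euler_eq k C hdim, h3]
    simp
  rw [Curv2.deg, h4, h5] at hd
  linarith

include hf hi hdim in
theorem regular_ell (hg : Curv2.genus k C = 1) (h0 : Subsingleton (Coh.HH C (Omega.conormal i) 0)) (d : ℕ)
    (hd : Curv2.deg k C ((Scheme.Modules.pullback (i ≫ emb f)).obj (Twist.twistProjSpace 4 k 1)) 1 = d)
    (H : Over (Spec (CommRingCat.of k))) (Z : FGA.HilbSet (ps f) H)
    (hH : FGA.HilbRepresentedBy (ps f) H Z)
    (h : pt k ⟶ H) (hh : FGA.hilbPull (ps f) h Z.1 = i.ker.comap (pullback.fst (ps f) (pt k).hom)) :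
    IsRegularLocalRing (H.left.presheaf.stalk (h.left.base (IsLocalRing.closedPoint k))) ∧
      ringKrullDim (H.left.presheaf.stalk (h.left.base (IsLocalRing.closedPoint k))) = ((2 * d : ℕ) : WithBot ℕ∞) := by
  have hp : IsProper (ps f) := inferInstance
  have hs : Smooth (i ≫ ps f) := by
    rw [hi]; infer_instance
  have hreg := K935.SmoothImm.isRegularClosedImmersion i (ps f)
  have := Groth.Agent.Sga2.PnHomAdj.hasSheafHom (Omega.conormal i)
  obtain ⟨h1, h2⟩ := normal f hf hdim i hi hg h0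
  have h3 := RegPt.regular_of i (ps f) hi H Z hH hreg h1 h hh
  refine ⟨h3.1, h3.2.trans ?_⟩
  have h4 : Module.finrank k (Coh.HH C ((DCoh.sheafHom (Omega.conormal i)).obj (Coh.structureModule C)) 0) = 2 * d := by
    rw [hd] at h2
    exact_mod_cast h2
  rw [h4]

/-- Version with the structure morphism of the curve as a variable (the form of the row S16528, any degree). -/
theorem regular_row {k : Type u} [Field k] [IsAlgClosed k] (f : LefPen.Form 4 k 3) (hf : f ≠ 0) [Smooth (ps f)]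
    (H : Over (Spec (CommRingCat.of k))) (Z : FGA.HilbSet (ps f) H) (hH : FGA.HilbRepresentedBy (ps f) H Z)
    (h : pt k ⟶ H) (C : Scheme.{u}) (p : C ⟶ Spec (CommRingCat.of k)) (i : C ⟶ Xf f) (hci : IsClosedImmersion i)
    (hi : i ≫ ps f = p) (hs : Smooth p) (hp : IsProper p) (hint : IsIntegral C) (hdim : topologicalKrullDim C = 1)
    (hg : @Curv2.genus k _ C ⟨p⟩ = 1) (d : ℕ)
    (hd : @Curv2.deg k _ C ⟨p⟩ ((Scheme.Modules.pullback (i ≫ emb f)).obj (Twist.twistProjSpace 4 k 1)) 1 = d)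
    (hh : FGA.hilbPull (ps f) h Z.1 = i.ker.comap (pullback.fst (ps f) (pt k).hom))
    (h0 : ∀ φ : Coh.structureModule C ⟶ Omega.conormal i, φ = 0) :
    IsRegularLocalRing (H.left.presheaf.stalk (h.left.base (IsLocalRing.closedPoint k))) ∧
      ringKrullDim (H.left.presheaf.stalk (h.left.base (IsLocalRing.closedPoint k))) = ((2 * d : ℕ) : WithBot ℕ∞) := by
  let _ : C.Over (Spec (CommRingCat.of k)) := ⟨p⟩
  have : IsProper (C ↘ Spec (CommRingCat.of k)) := hp
  have : Smooth (C ↘ Spec (CommRingCat.of k)) := hs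
  exact regular_ell f hf hdim i hi hg ((K708.HomH0.forall_unit_hom_eq_zero_iff _).1 h0) d hd H Z hH h hh

/-- `K255.PlanE.regular_ell` with the hypothesis `H⁰(C, conormal) = 0`. -/
theorem regular_ten {k : Type u} [Field k] [IsAlgClosed k] (f : LefPen.Form 4 k 3) (hf : f ≠ 0) [Smooth (ps f)]
    (H : Over (Spec (CommRingCat.of k))) (Z : FGA.HilbSet (ps f) H) (hH : FGA.HilbRepresentedBy (ps f) H Z)
    (C : Scheme.{u}) (p : C ⟶ Spec (CommRingCat.of k)) (i : C ⟶ Xf f) (hcl : IsClosedImmersion i)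
    (hip : i ≫ ps f = p) (hsm : Smooth p) (hpr : IsProper p) (hint : IsIntegral C)
    (hdim : topologicalKrullDim C = 1) (hg : @Curv2.genus k _ C ⟨p⟩ = 1)
    (hdeg : @Curv2.deg k _ C ⟨p⟩ ((Scheme.Modules.pullback (i ≫ emb f)).obj
      (Twist.twistProjSpace 4 k 1)) 1 = 5)
    (h0 : Subsingleton (Coh.HH C (Omega.conormal i) 0))
    (h : pt k ⟶ H) (hh : FGA.hilbPull (ps f) h Z.1 = i.ker.comap (pullback.fst (ps f) (pt k).hom)) :
    IsRegularLocalRing (H.left.presheaf.stalk (h.left.base (IsLocalRing.closedPoint k))) ∧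
      ringKrullDim (H.left.presheaf.stalk (h.left.base (IsLocalRing.closedPoint k))) = 10 := by
  have h1 := regular_row f hf H Z hH h C p i hcl hip hsm hpr hint hdim hg 5 (by exact_mod_cast hdeg) hh
    ((K708.HomH0.forall_unit_hom_eq_zero_iff _).2 h0)
  exact ⟨h1.1, h1.2.trans (by norm_num)⟩

end K560.EllReg
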