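import Groth.Agent.Fano.K714.QuartDef
import Groth.Agent.Fano.K714.JacSm
import Mathlib.LinearAlgebra.Basis.VectorSpace
import Mathlib.RingTheory.MvPolynomial.Homogeneous
import Mathlib.FieldTheory.IsAlgClosed.Basic

/-!
# Cubic forms modulo `(v₀, v₁, v₂, M₀, M₁, M₂)` for a smooth cubic `∑ v_j M_j`

`exists_decomp`: every cubic form is `∑ v_i q_i + ∑ M_j l_j`.
-/

set_option autoImplicit false
universe u
open CategoryTheory CategoryTheory.Limits AlgebraicGeometry TopologicalSpace Opposite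

namespace K560.QuartAlg

open Groth.Agent.Fano.K714.Rat Groth.Agent.Fano.K714.Quart MvPolynomial LefPen

variable {k : Type u} [Field k]

/-- Elementary elimination: three binary quadratic forms `a s² + b s t + c t²` killed by the two functionals
`(w₀,w₁,w₂)` and `(w₁,w₂,w₃)` have a common zero. -/
theorem exists_common_zero [IsAlgClosed k] {ι : Type*} (A B C : ι → k) (w₀ w₁ w₂ w₃ : k)
    (hw : ¬ (w₀ = 0 ∧ w₁ = 0 ∧ w₂ = 0 ∧ w₃ = 0))
    (h : ∀ j, A j * w₀ + B j * w₁ + C j * w₂ = 0) (h' : ∀ j, A j * w₁ + B j * w₂ + C j * w₃ = 0) :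
    ∃ s t : k, ¬ (s = 0 ∧ t = 0) ∧ ∀ j, A j * s ^ 2 + B j * (s * t) + C j * t ^ 2 = 0 := by
  by_cases hN : w₁ * w₃ = w₂ ^ 2 ∧ w₁ * w₂ = w₀ * w₃ ∧ w₀ * w₂ = w₁ ^ 2
  · -- dependent functionals
    obtain ⟨n1, n2, n3⟩ := hN
    have key : ∃ x y : k, ¬ (x = 0 ∧ y = 0) ∧ x * w₀ = y * w₁ ∧ x * w₁ = y * w₂ ∧ x * w₂ = y * w₃ := by
      by_cases h0 : w₀ = 0
      · have h1 : w₁ = 0 := by
          rw [h0, zero_mul] at n3
          exact pow_eq_zero_iff two_ne_zero |>.mp n3.symm
        have h2 : w₂ = 0 := by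
          rw [h1, zero_mul] at n1
          exact pow_eq_zero_iff two_ne_zero |>.mp n1.symm
        exact ⟨1, 0, by simp, by rw [h0]; ring, by rw [h1]; ring, by rw [h2]; ring⟩
      · refine ⟨w₁, w₀, fun hh => h0 hh.2, by ring, by linear_combination -n3, by linear_combination n2⟩
    obtain ⟨x, y, hxy, e0, e1, e2⟩ := key
    refine ⟨y, x, fun hh => hxy ⟨hh.2, hh.1⟩, fun j => ?_⟩
    have p0 : w₀ * (A j * y ^ 2 + B j * (y * x) + C j * x ^ 2) = 0 := by
      linear_combination (y ^ 2) * h j + (B j * y + C j * x) * e0 + (C j * y) * e1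
    have p1 : w₁ * (A j * y ^ 2 + B j * (y * x) + C j * x ^ 2) = 0 := by
      linear_combination (y ^ 2) * h' j + (B j * y + C j * x) * e1 + (C j * y) * e2
    have p2 : w₂ * (A j * y ^ 2 + B j * (y * x) + C j * x ^ 2) = 0 := by
      linear_combination (x * y) * h' j - (A j * y) * e1 + (C j * x) * e2
    have p3 : w₃ * (A j * y ^ 2 + B j * (y * x) + C j * x ^ 2) = 0 := by
      linear_combination (x ^ 2) * h' j - (A j * y + B j * x) * e2 - (A j * x) * e1
    by_contra hc
    exact hw ⟨(mul_eq_zero.mp p0).resolve_right hc, (mul_eq_zero.mp p1).resolve_right hc,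
      (mul_eq_zero.mp p2).resolve_right hc, (mul_eq_zero.mp p3).resolve_right hc⟩
  · -- independent functionals
    set N₁ := w₁ * w₃ - w₂ ^ 2 with hN1
    set N₂ := w₁ * w₂ - w₀ * w₃ with hN2
    set N₃ := w₀ * w₂ - w₁ ^ 2 with hN3
    have hne : ¬ (N₁ = 0 ∧ N₂ = 0 ∧ N₃ = 0) := fun hh => hN
      ⟨sub_eq_zero.mp hh.1, sub_eq_zero.mp hh.2.1, sub_eq_zero.mp hh.2.2⟩
    have c12 : ∀ j, A j * N₂ = B j * N₁ := fun j => by
      rw [hN1, hN2]
      linear_combination w₂ * h' j - w₃ * h j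
    have c13 : ∀ j, A j * N₃ = C j * N₁ := fun j => by
      rw [hN1, hN3]
      linear_combination w₂ * h j - w₁ * h' j
    have c23 : ∀ j, B j * N₃ = C j * N₂ := fun j => by
      rw [hN2, hN3]
      linear_combination w₀ * h' j - w₁ * h j
    have hroot : ∃ s t : k, ¬ (s = 0 ∧ t = 0) ∧ N₁ * s ^ 2 + N₂ * (s * t) + N₃ * t ^ 2 = 0 := by
      by_cases h1 : N₁ = 0
      · exact ⟨1, 0, by simp, by rw [h1]; ring⟩
      · obtain ⟨s, hs⟩ := IsAlgClosed.exists_root
          (Polynomial.C N₁ * Polynomial.X ^ 2 + Polynomial.C N₂ * Polynomial.X + Polynomial.C N₃)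
          (by rw [Polynomial.degree_quadratic h1]; decide)
        refine ⟨s, 1, by simp, ?_⟩
        have h2 : N₁ * s ^ 2 + N₂ * s + N₃ = 0 := by simpa using hs
        linear_combination h2
    obtain ⟨s, t, hst, h0⟩ := hroot
    refine ⟨s, t, hst, fun j => ?_⟩
    by_contra hc
    apply hne
    have q1 : N₁ * (A j * s ^ 2 + B j * (s * t) + C j * t ^ 2) = 0 := by
      linear_combination A j * h0 - (s * t) * c12 j - t ^ 2 * c13 j
    have q2 : N₂ * (A j * s ^ 2 + B j * (s * t) + C j * t ^ 2) = 0 := by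
      linear_combination B j * h0 + s ^ 2 * c12 j - t ^ 2 * c23 j
    have q3 : N₃ * (A j * s ^ 2 + B j * (s * t) + C j * t ^ 2) = 0 := by
      linear_combination C j * h0 + s ^ 2 * c13 j + (s * t) * c23 j
    exact ⟨(mul_eq_zero.mp q1).resolve_right hc, (mul_eq_zero.mp q2).resolve_right hc,
      (mul_eq_zero.mp q3).resolve_right hc⟩

theorem exists_succ {σ : Type*} (m : σ →₀ ℕ) (n : ℕ) (hm : m.degree = n + 1) :
    ∃ (a : σ) (m' : σ →₀ ℕ), m = m' + Finsupp.single a 1 ∧ m'.degree = n := by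
  classical
  have h0 : m ≠ 0 := by
    rintro rfl
    simp at hm
  obtain ⟨a, ha⟩ := Finsupp.ne_iff.mp h0
  have hle : Finsupp.single a 1 ≤ m := by
    rw [Finsupp.single_le_iff]
    exact Nat.one_le_iff_ne_zero.mpr ha
  refine ⟨a, m - Finsupp.single a 1, (tsub_add_cancel_of_le hle).symm, ?_⟩
  have h1 := congrArg Finsupp.degree (tsub_add_cancel_of_le hle)
  rw [map_add, Finsupp.degree_single, hm] at h1
  omega

theorem exists_triple {σ : Type*} (m : σ →₀ ℕ) (hm : m.degree = 3) :
    ∃ a b c : σ, (monomial m (1 : k)) = X a * X b * X c := by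
  obtain ⟨c, m₂, rfl, h2⟩ := exists_succ m 2 hm
  obtain ⟨b, m₁, rfl, h1⟩ := exists_succ m₂ 1 h2
  obtain ⟨a, m₀, rfl, h0⟩ := exists_succ m₁ 0 h1
  have h3 : m₀ = 0 := by
    rw [Finsupp.degree_eq_zero_iff] at h0
    exact h0
  subst h3
  refine ⟨a, b, c, ?_⟩
  rw [zero_add, X, X, X, monomial_mul, monomial_mul, mul_one, mul_one]

/-- A linear functional vanishing on products of three variables vanishes on cubic forms. -/
theorem eq_zero_of_triple {σ : Type*} (w : MvPolynomial σ k →ₗ[k] k) (h : ∀ a b c, w (X a * X b * X c) = 0)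
    (g : MvPolynomial σ k) (hg : g.IsHomogeneous 3) : w g = 0 := by
  rw [g.as_sum, map_sum]
  refine Finset.sum_eq_zero fun m hm => ?_
  have h1 : m.degree = 3 := by
    have := hg (mem_support_iff.mp hm)
    rw [Finsupp.degree_eq_weight_one]
    exact this
  obtain ⟨a, b, c, h2⟩ := exists_triple (k := k) m h1
  have h3 : monomial m (coeff m g) = coeff m g • (monomial m (1 : k)) := by
    rw [smul_monomial, smul_eq_mul, mul_one]
  rw [h3, map_smul, h2, h, smul_zero]

/-- A basis of `k^5` starting with three given independent vectors. -/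
theorem exists_basis (v : Fin 3 → Fin 5 → k) (hv : LinearIndependent k v) :
    ∃ b : Module.Basis (Fin 3 ⊕ Fin 2) k (Fin 5 → k), ∀ i, b (Sum.inl i) = v i := by
  classical
  let B := Module.Basis.sumExtend hv
  have hfin : Finite (Fin 3 ⊕ Module.Basis.sumExtendIndex hv) := Module.Finite.finite_basis B
  have : Finite (Module.Basis.sumExtendIndex hv) :=
    Finite.of_injective (Sum.inr : _ → Fin 3 ⊕ Module.Basis.sumExtendIndex hv) Sum.inr_injective
  have : Fintype (Module.Basis.sumExtendIndex hv) := Fintype.ofFinite _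
  have h1 := Module.finrank_eq_card_basis B
  rw [Module.finrank_fin_fun, Fintype.card_sum, Fintype.card_fin] at h1
  have h2 : Fintype.card (Module.Basis.sumExtendIndex hv) = 2 := by omega
  let e : Module.Basis.sumExtendIndex hv ≃ Fin 2 := Fintype.equivFinOfCardEq h2
  refine ⟨B.reindex (Equiv.sumCongr (Equiv.refl _) e), fun i => ?_⟩
  rw [Module.Basis.reindex_apply]
  simp only [Module.Basis.sumExtend, Module.Basis.reindex_apply, B]
  simp
  rfl

/-- The value of the linear form with coefficients `v` at `x`. -/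
theorem lin_single (a : Fin 5) : (lin (Pi.single a (1 : k))).1 = X a := by
  classical
  have h1 : lin (Pi.single a (1 : k)) = ⟨MvPolynomial.X a, LefPen.X_mem 4 k a⟩ := by
    rw [lin, Finset.sum_eq_single a]
    · rw [Pi.single_eq_same, one_smul]
    · intro b _ hb
      rw [Pi.single_eq_of_ne hb, zero_smul]
    · intro h
      exact absurd (Finset.mem_univ a) h
  rw [h1]

theorem lin_add (v w : Fin 5 → k) : lin (v + w) = lin v + lin w := by
  rw [lin, lin, lin, ← Finset.sum_add_distrib]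
  exact Finset.sum_congr rfl fun i _ => by rw [Pi.add_apply, add_smul]

theorem lin_smul (c : k) (v : Fin 5 → k) : lin (c • v) = c • lin v := by
  rw [lin, lin, Finset.smul_sum]
  exact Finset.sum_congr rfl fun i _ => by rw [Pi.smul_apply, smul_eq_mul, mul_smul]

/-- `lin` as a linear map. -/
noncomputable def linL : (Fin 5 → k) →ₗ[k] Form 4 k 1 where
  toFun := lin
  map_add' := lin_add
  map_smul' := lin_smul

theorem X_eq (b : Module.Basis (Fin 3 ⊕ Fin 2) k (Fin 5 → k)) (a : Fin 5) :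
    (X a : MvPolynomial (Fin 5) k) =
      ∑ i : Fin 3, b.repr (Pi.single a 1) (Sum.inl i) • (lin (b (Sum.inl i))).1 +
      (b.repr (Pi.single a 1) (Sum.inr 0) • (lin (b (Sum.inr 0))).1 +
        b.repr (Pi.single a 1) (Sum.inr 1) • (lin (b (Sum.inr 1))).1) := by
  classical
  have h1 := b.sum_repr (Pi.single a (1 : k))
  have h2 := congrArg (fun v => (linL v : Form 4 k 1).1) h1
  simp only [Fintype.sum_sum_type, Fin.sum_univ_two] at h2
  have h3 : (linL (Pi.single a (1 : k)) : Form 4 k 1).1 = X a := lin_single a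
  rw [h3] at h2
  rw [← h2, map_add, map_add, map_sum]
  simp only [map_smul]
  rfl

theorem repr_eq (b : Module.Basis (Fin 3 ⊕ Fin 2) k (Fin 5 → k)) (v : Fin 5 → k) (i : Fin 3 ⊕ Fin 2) :
    ∑ a, v a * b.repr (Pi.single a 1) i = b.repr v i := by
  classical
  have h1 : v = ∑ a, v a • (Pi.single a (1 : k) : Fin 5 → k) := by
    conv_lhs => rw [← Finset.univ_sum_single v]
    refine Finset.sum_congr rfl fun a _ => ?_
    rw [← Pi.single_smul, smul_eq_mul, mul_one]
  conv_rhs => rw [h1, map_sum, Finsupp.finsetSum_apply]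
  refine Finset.sum_congr rfl fun a _ => ?_
  rw [map_smul, Finsupp.smul_apply, smul_eq_mul]

theorem quad_val (M : Fin 5 → Fin 5 → k) :
    (quad M).1 = ∑ i, ∑ j, M i j • ((X i : MvPolynomial (Fin 5) k) * X j) := by
  rw [quad]
  simp only [AddSubmonoidClass.coe_finsetSum, SetLike.val_smul]

theorem exists_point [IsAlgClosed k] (v : Fin 3 → Fin 5 → k) (hv : LinearIndependent k v)
    (M : Fin 3 → Fin 5 → Fin 5 → k) (w : MvPolynomial (Fin 5) k →ₗ[k] k)
    (hw1 : ∀ (j : Fin 3) (a : Form 4 k 2), w ((lin (v j)).1 * a.1) = 0)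
    (hw2 : ∀ (j : Fin 3) (l : Form 4 k 1), w ((quad (M j)).1 * l.1) = 0)
    (g : Form 4 k 3) (hg : w g.1 ≠ 0) :
    ∃ p : Fin 5 → k, p ≠ 0 ∧ (∀ j, eval p (lin (v j)).1 = 0) ∧ ∀ j, eval p (quad (M j)).1 = 0 := by
  classical
  obtain ⟨b, hb⟩ := exists_basis v hv
  let e : Fin 2 → Fin 5 → k := fun i a => b.repr (Pi.single a 1) (Sum.inr i)
  let s : MvPolynomial (Fin 5) k := (lin (b (Sum.inr 0))).1
  let t : MvPolynomial (Fin 5) k := (lin (b (Sum.inr 1))).1
  have hs : s.IsHomogeneous 1 := (lin (b (Sum.inr 0))).2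
  have ht : t.IsHomogeneous 1 := (lin (b (Sum.inr 1))).2
  let n : Fin 5 → MvPolynomial (Fin 5) k := fun a =>
    ∑ i : Fin 3, b.repr (Pi.single a 1) (Sum.inl i) • (lin (b (Sum.inl i))).1
  let L : Fin 5 → MvPolynomial (Fin 5) k := fun a => C (e 0 a) * s + C (e 1 a) * t
  have hL : ∀ a, (L a).IsHomogeneous 1 := fun a =>
    (hs.C_mul _).add (ht.C_mul _)
  have hX : ∀ a, (X a : MvPolynomial (Fin 5) k) = n a + L a := by
    intro a
    have h1 := X_eq b a
    rw [smul_eq_C_mul, smul_eq_C_mul] at h1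
    exact h1
  have hn : ∀ (a : Fin 5) (P : MvPolynomial (Fin 5) k), P.IsHomogeneous 2 → w (n a * P) = 0 := by
    intro a P hP
    have h1 : n a * P = ∑ i : Fin 3, b.repr (Pi.single a 1) (Sum.inl i) • ((lin (b (Sum.inl i))).1 * P) := by
      rw [Finset.sum_mul]
      exact Finset.sum_congr rfl fun i _ => by rw [smul_mul_assoc]
    rw [h1, map_sum]
    refine Finset.sum_eq_zero fun i _ => ?_
    rw [map_smul, hb, hw1 i ⟨P, hP⟩, smul_zero]
  have hX1 : ∀ a, (X a : MvPolynomial (Fin 5) k).IsHomogeneous 1 := fun a => isHomogeneous_X k a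
  -- two factors
  have h2 : ∀ (a c : Fin 5) (P : MvPolynomial (Fin 5) k), P.IsHomogeneous 1 →
      w (X a * X c * P) = w (L a * L c * P) := by
    intro a c P hP
    have h1 : X a * X c * P = L a * L c * P + (n a * (X c * P) + n c * (L a * P)) := by
      rw [hX a, hX c]; ring
    rw [h1, map_add, map_add, hn a _ ((hX1 c).mul hP), hn c _ ((hL a).mul hP), add_zero, add_zero]
  have h3 : ∀ (a c d : Fin 5), w (X a * X c * X d) = w (L a * L c * L d) := by
    intro a c d
    have h1 : L a * L c * X d = L a * L c * L d + n d * (L a * L c) := by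
      rw [hX d]; ring
    rw [h2 a c _ (hX1 d), h1, map_add, hn d _ ((hL a).mul (hL c)), add_zero]
  have hC : ∀ (c : k) (P : MvPolynomial (Fin 5) k), w (C c * P) = c * w P := by
    intro c P
    rw [← smul_eq_C_mul, map_smul, smul_eq_mul]
  have key : ∀ (x y x' y' x'' y'' : k),
      w ((C x * s + C y * t) * (C x' * s + C y' * t) * (C x'' * s + C y'' * t)) =
        x * x' * x'' * w (s * s * s) + (x * x' * y'' + x * y' * x'' + y * x' * x'') * w (s * s * t) +
        (x * y' * y'' + y * x' * y'' + y * y' * x'') * w (s * t * t) + y * y' * y'' * w (t * t * t) := by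
    intro x y x' y' x'' y''
    have h1 : (C x * s + C y * t) * (C x' * s + C y' * t) * (C x'' * s + C y'' * t) =
        C (x * x' * x'') * (s * s * s) + C (x * x' * y'' + x * y' * x'' + y * x' * x'') * (s * s * t) +
        C (x * y' * y'' + y * x' * y'' + y * y' * x'') * (s * t * t) + C (y * y' * y'') * (t * t * t) := by
      simp only [map_mul, map_add]
      ring
    rw [h1, map_add, map_add, map_add, hC, hC, hC, hC]
  have hnz : ¬ (w (s * s * s) = 0 ∧ w (s * s * t) = 0 ∧ w (s * t * t) = 0 ∧ w (t * t * t) = 0) := by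
    rintro ⟨z0, z1, z2, z3⟩
    refine hg (eq_zero_of_triple w (fun a c d => ?_) g.1 g.2)
    rw [h3, key, z0, z1, z2, z3]
    ring
  let A : Fin 3 → k := fun j => ∑ a, ∑ c, M j a c * (e 0 a * e 0 c)
  let B : Fin 3 → k := fun j => ∑ a, ∑ c, M j a c * (e 0 a * e 1 c + e 1 a * e 0 c)
  let D : Fin 3 → k := fun j => ∑ a, ∑ c, M j a c * (e 1 a * e 1 c)
  have hsum : ∀ (j : Fin 3) (P : MvPolynomial (Fin 5) k), P.IsHomogeneous 1 →
      w ((quad (M j)).1 * P) = ∑ a, ∑ c, M j a c * w (L a * L c * P) := by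
    intro j P hP
    rw [quad_val, Finset.sum_mul, map_sum]
    refine Finset.sum_congr rfl fun a _ => ?_
    rw [Finset.sum_mul, map_sum]
    refine Finset.sum_congr rfl fun c _ => ?_
    rw [smul_mul_assoc, map_smul, h2 a c P hP, smul_eq_mul]
  have hsL : ∀ a c, w (L a * L c * s) = e 0 a * e 0 c * w (s * s * s) +
      (e 0 a * e 1 c + e 1 a * e 0 c) * w (s * s * t) + e 1 a * e 1 c * w (s * t * t) := by
    intro a c
    have h1 := key (e 0 a) (e 1 a) (e 0 c) (e 1 c) 1 0
    simp only [map_one, map_zero, one_mul, zero_mul, add_zero, mul_one, mul_zero] at h1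
    rw [show L a * L c * s = (C (e 0 a) * s + C (e 1 a) * t) * (C (e 0 c) * s + C (e 1 c) * t) * s from rfl, h1]
    ring
  have htL : ∀ a c, w (L a * L c * t) = e 0 a * e 0 c * w (s * s * t) +
      (e 0 a * e 1 c + e 1 a * e 0 c) * w (s * t * t) + e 1 a * e 1 c * w (t * t * t) := by
    intro a c
    have h1 := key (e 0 a) (e 1 a) (e 0 c) (e 1 c) 0 1
    simp only [map_one, map_zero, one_mul, zero_mul, zero_add, mul_one, mul_zero, add_zero] at h1
    rw [show L a * L c * t = (C (e 0 a) * s + C (e 1 a) * t) * (C (e 0 c) * s + C (e 1 c) * t) * t from rfl, h1]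
  have hj : ∀ j, A j * w (s * s * s) + B j * w (s * s * t) + D j * w (s * t * t) = 0 := by
    intro j
    rw [← hw2 j ⟨s, hs⟩, hsum j s hs]
    simp only [A, B, D, Finset.sum_mul, hsL, ← Finset.sum_add_distrib]
    exact Finset.sum_congr rfl fun a _ => Finset.sum_congr rfl fun c _ => by ring
  have hj' : ∀ j, A j * w (s * s * t) + B j * w (s * t * t) + D j * w (t * t * t) = 0 := by
    intro j
    rw [← hw2 j ⟨t, ht⟩, hsum j t ht]
    simp only [A, B, D, Finset.sum_mul, htL, ← Finset.sum_add_distrib]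
    exact Finset.sum_congr rfl fun a _ => Finset.sum_congr rfl fun c _ => by ring
  obtain ⟨x, y, hxy, h0⟩ := exists_common_zero A B D _ _ _ _ hnz hj hj'
  let p : Fin 5 → k := fun a => x * e 0 a + y * e 1 a
  have hp : ∀ u : Fin 5 → k, ∑ a, u a * p a = x * b.repr u (Sum.inr 0) + y * b.repr u (Sum.inr 1) := by
    intro u
    rw [← repr_eq b u, ← repr_eq b u, Finset.mul_sum, Finset.mul_sum, ← Finset.sum_add_distrib]
    exact Finset.sum_congr rfl fun a _ => by simp only [p, e]; ring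
  refine ⟨p, fun hp0 => hxy ?_, fun j => ?_, fun j => ?_⟩
  · have r0 := hp (b (Sum.inr 0))
    have r1 := hp (b (Sum.inr 1))
    rw [hp0] at r0 r1
    simp [Module.Basis.repr_self] at r0 r1
    exact ⟨r0.symm, r1.symm⟩
  · rw [eval_lin, hp, ← hb j]
    simp [Module.Basis.repr_self]
  · rw [eval_quad]
    have h1 := h0 j
    simp only [A, B, D, Finset.sum_mul, ← Finset.sum_add_distrib] at h1
    rw [← h1]
    exact Finset.sum_congr rfl fun a _ => Finset.sum_congr rfl fun c _ => by simp only [p]; ring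

/-- Cubic forms modulo the linear and quadratic forms of a decomposition of a smooth cubic. -/
theorem exists_decomp [IsAlgClosed k] (f : Form 4 k 3) (hf : f ≠ 0) [hsm : Smooth (ps f)] (q : Data k)
    (hq : q ∈ Sol f) (g : Form 4 k 3) :
    ∃ (a : Fin 3 → Form 4 k 2) (l : Fin 3 → Form 4 k 1),
      g.1 = ∑ j, (lin (q.1 j)).1 * (a j).1 + ∑ j, (quad (q.2 j)).1 * (l j).1 := by
  classical
  obtain ⟨hv, hfe⟩ := hq
  let Φ : ((Fin 3 → Form 4 k 2) × (Fin 3 → Form 4 k 1)) →ₗ[k] MvPolynomial (Fin 5) k :=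
    { toFun := fun x => ∑ j, (lin (q.1 j)).1 * (x.1 j).1 + ∑ j, (quad (q.2 j)).1 * (x.2 j).1
      map_add' := fun x y => by
        simp only [Prod.fst_add, Prod.snd_add, Pi.add_apply, Submodule.coe_add, mul_add, Finset.sum_add_distrib]
        ring
      map_smul' := fun c x => by
        simp only [Prod.smul_fst, Prod.smul_snd, Pi.smul_apply, SetLike.val_smul, mul_smul_comm,
          RingHom.id_apply, smul_add, Finset.smul_sum] }
  by_contra hc
  have hgm : g.1 ∉ LinearMap.range Φ := by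
    rintro ⟨x, hx⟩
    exact hc ⟨x.1, x.2, hx.symm⟩
  obtain ⟨w, hw, hker⟩ := Submodule.exists_le_ker_of_notMem hgm
  have hw0 : ∀ x, w (Φ x) = 0 := fun x => hker ⟨x, rfl⟩
  obtain ⟨p, hp0, hp1, hp2⟩ := exists_point q.1 hv q.2 w
    (fun j a => by
      have h1 := hw0 (Pi.single j a, 0)
      have h2 : Φ (Pi.single j a, 0) = (lin (q.1 j)).1 * a.1 := by
        change ∑ i, (lin (q.1 i)).1 * ((Pi.single j a : Fin 3 → Form 4 k 2) i).1 +
          ∑ i, (quad (q.2 i)).1 * ((0 : Fin 3 → Form 4 k 1) i).1 = _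
        rw [Finset.sum_eq_single j (fun i _ hi => by rw [Pi.single_eq_of_ne hi]; exact mul_zero _)
          (fun h => absurd (Finset.mem_univ j) h), Pi.single_eq_same,
          Finset.sum_eq_zero (fun i _ => mul_zero _), add_zero]
      rwa [h2] at h1)
    (fun j l => by
      have h1 := hw0 (0, Pi.single j l)
      have h2 : Φ (0, Pi.single j l) = (quad (q.2 j)).1 * l.1 := by
        change ∑ i, (lin (q.1 i)).1 * ((0 : Fin 3 → Form 4 k 2) i).1 +
          ∑ i, (quad (q.2 i)).1 * ((Pi.single j l : Fin 3 → Form 4 k 1) i).1 = _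
        have e1 : ∑ i, (lin (q.1 i)).1 * ((0 : Fin 3 → Form 4 k 2) i).1 = 0 :=
          Finset.sum_eq_zero fun i _ => mul_zero _
        rw [e1, zero_add, Finset.sum_eq_single j (fun i _ hi => by rw [Pi.single_eq_of_ne hi]; exact mul_zero _)
          (fun h => absurd (Finset.mem_univ j) h), Pi.single_eq_same]
      rwa [h2] at h1) g hw
  have h0 : eval p f.1 = 0 := by
    rw [hfe, map_sum]
    exact Finset.sum_eq_zero fun j _ => by rw [map_mul, hp1, zero_mul]
  obtain ⟨i, hi⟩ := Groth.Agent.Fano.K714.JacSm.exists_pderiv f (fun h1 => hf (Subtype.ext h1)) hsm p hp0 h0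
  apply hi
  rw [hfe, map_sum, map_sum]
  refine Finset.sum_eq_zero fun j _ => ?_
  rw [Derivation.leibniz, map_add, smul_eq_mul, smul_eq_mul, map_mul, map_mul, hp1, hp2, zero_mul, zero_mul,
    add_zero]

end K560.QuartAlg
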