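import Groth.Agent.Sga2.PnCoprod
import Groth.Agent.Sga2.PnHomExact
import Groth.Agent.FormalB.HHLes
import Groth.Agent.ProjDual.K273.InvHom
import Groth.Agent.Coherent.K51.CIGood
import Groth.Agent.Fano.K715.CIConormal
import Groth.Agent.VarietyA.EulerLES
import Groth.Agent.LefPen.K568.HypIdMod

/-!
# Cohomology of `Hom(N, O)`, `N` the conormal module of a complete intersection

* `exists_homSum`: `H^p(X, Hom(∐ M_j, P)) ≃ ∏ H^p(X, Hom(M_j, P))`, linearly;
* `exists_homTwist`: `Hom(j^* O(-d), O) ≅ j^* O(d)`;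
* `exists_homConormal`: `H^p(E, Hom(N, O)) ≃ ∏ H^p(E, O(φ_i))` for the conormal module of a complete intersection.
-/

set_option autoImplicit false

universe u

open CategoryTheory CategoryTheory.Limits AlgebraicGeometry TopologicalSpace Opposite

namespace K560.HomSum

open LefPen K715.Geo K715.Gens K715.Res K715.SumSec K715.Pair K715.CIConormal
open Groth.Agent Groth.Agent.Lefpen.H705.HypIdeal Groth.Agent.Lefpen.H705.ChartPoly
open Groth.Agent.CohqB.HomSheaf Groth.Agent.Sga2.PnHomAdj Groth.Agent.Sga2.PnHomExact Groth.Agent.Sga2.PnCoprod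
open Groth.Agent.FormalA.HHLin

section

variable {X : Scheme.{u}} (k : Type u) [CommRing k] [X.Over (Spec (CommRingCat.of k))]

theorem exists_homSum {n : ℕ} (M : Fin n → X.Modules) (P : X.Modules) (p : ℕ) :
    Nonempty (Coh.HH X (homSheaf (∐ M) P) p ≃ₗ[k] (∀ j, Coh.HH X (homSheaf (M j) P) p)) := by
  classical
  let F : Coh.HH X (homSheaf (∐ M) P) p →ₗ[k] (∀ j, Coh.HH X (homSheaf (M j) P) p) :=
    LinearMap.pi fun j => HHmap k (homMapLeft (Sigma.ι M j) P) p
  let G : (∀ j, Coh.HH X (homSheaf (M j) P) p) →ₗ[k] Coh.HH X (homSheaf (∐ M) P) p :=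
    ∑ j, (HHmap k (homMapLeft (Sigma.π M j) P) p).comp (LinearMap.proj j)
  refine ⟨LinearEquiv.ofLinearMap F G ?_ ?_⟩
  · refine LinearMap.ext fun x => funext fun i => ?_
    have h1 : (F.comp G) x i = HHmap k (homMapLeft (Sigma.ι M i) P) p
        (∑ j, HHmap k (homMapLeft (Sigma.π M j) P) p (x j)) := by
      change HHmap k (homMapLeft (Sigma.ι M i) P) p (G x) = _
      congr 1
      exact LinearMap.sum_apply _ _ _
    rw [h1, map_sum, Finset.sum_eq_single i]
    · rw [← LinearMap.comp_apply, ← HHmap_comp, homMapLeft_comp, Sigma.ι_π_eq_id, homMapLeft_id, HHmap_id]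
      rfl
    · intro j _ hj
      rw [← LinearMap.comp_apply, ← HHmap_comp, homMapLeft_comp, Sigma.ι_π_of_ne _ (Ne.symm hj),
        homMapLeft_zero, Groth.Agent.FormalB.HHLes.HHmap_zero]
      rfl
    · intro h
      exact absurd (Finset.mem_univ i) h
  · refine LinearMap.ext fun x => ?_
    have h1 : (G.comp F) x = ∑ j, HHmap k (homMapLeft (Sigma.π M j) P) p
        (HHmap k (homMapLeft (Sigma.ι M j) P) p x) := LinearMap.sum_apply _ _ _
    have h2 : ∀ j, HHmap k (homMapLeft (Sigma.π M j) P) p (HHmap k (homMapLeft (Sigma.ι M j) P) p x) =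
        HHmap k (homMapLeft (Sigma.ι M j) P ≫ homMapLeft (Sigma.π M j) P) p x := fun j => by
      rw [HHmap_comp]
      rfl
    rw [h1, Finset.sum_congr rfl fun j _ => h2 j, ← LinearMap.sum_apply,
      ← Groth.Agent.FormalB.HHLes.HHmap_sum, sum_homMapLeft, HHmap_id]

end

section

variable {n t : ℕ} {k : Type u} [Field k]

theorem nonempty_homTwist {E : Scheme.{u}} (j : E ⟶ CohB1.ProjSpace n k) (d : ℤ) :
    Nonempty (homSheaf ((Scheme.Modules.pullback j).obj (Twist.twistProjSpace n k (-d)))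
      (Coh.structureModule E) ≅ (Scheme.Modules.pullback j).obj (Twist.twistProjSpace n k d)) := by
  obtain ⟨e1⟩ := Coherent.K51.CIGood.nonempty_mul (N := n) (k := k) (-d) d
  obtain ⟨e2⟩ := Ega3B.PullTensor.nonempty_pullUnitIso j
  have e3 : Twist.twistProjSpace n k (-d + d) ≅ Coh.structureModule (CohB1.ProjSpace n k) :=
    eqToIso (by rw [neg_add_cancel]) ≪≫ (asIso (unitO n k)).symm
  have e4 : CohB1.tensorMod ((Scheme.Modules.pullback j).obj (Twist.twistProjSpace n k (-d)))
      ((Scheme.Modules.pullback j).obj (Twist.twistProjSpace n k d)) ≅ Coh.structureModule E :=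
    (Ega3B.PullTensor.pullTensorIso j (Ega3B.ProjFrame.isInvertible_twistProjSpace n k (-d))
      (Ega3B.ProjFrame.isInvertible_twistProjSpace n k d)).symm ≪≫
      (Scheme.Modules.pullback j).mapIso (e1 ≪≫ e3) ≪≫ e2
  exact ⟨K273.InvHom.homIso e4 (Coh.structureModule E) ≪≫ Ega2.Tens.lunit _⟩

/-- `Hom(-, P)` of an isomorphism. -/
noncomputable def homIsoLeft {X : Scheme.{u}} {M M' : X.Modules} (e : M ≅ M') (P : X.Modules) :
    homSheaf M P ≅ homSheaf M' P := (homFL P).mapIso e.symm.op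

variable (φ : Fin t → ℕ) (G : ∀ i : Fin t, Form n k (φ i))

/-- cohomology of the normal module of a complete intersection -/
theorem exists_homConormal (hdim : topologicalKrullDim ↥(ciIdeal G).subscheme ≤ (n - t : ℕ)) (htn : t ≤ n)
    {j : (ciIdeal G).subscheme ⟶ CohB1.ProjSpace n k} (hj : j = (ciIdeal G).subschemeι)
    [(ciIdeal G).subscheme.Over (Spec (CommRingCat.of k))] (p : ℕ) :
    Nonempty (Coh.HH (ciIdeal G).subscheme (homSheaf (Omega.conormal j)
      (Coh.structureModule (ciIdeal G).subscheme)) p ≃ₗ[k]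
      (∀ i, Coh.HH (ciIdeal G).subscheme
        ((Scheme.Modules.pullback j).obj (Twist.twistProjSpace n k (φ i : ℤ))) p)) := by
  subst hj
  obtain ⟨e⟩ := K715.CIConormal.nonempty_iso G hdim htn
  obtain ⟨e1⟩ := exists_homSum k (fun i : Fin t =>
    (Scheme.Modules.pullback (ciIdeal G).subschemeι).obj (OO n k (-(φ i : ℤ))))
    (Coh.structureModule (ciIdeal G).subscheme) p
  have e2 := fun i : Fin t => (nonempty_homTwist (ciIdeal G).subschemeι (φ i : ℤ)).some
  let e3 : (∀ i : Fin t, Coh.HH (ciIdeal G).subscheme (homSheaf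
      ((Scheme.Modules.pullback (ciIdeal G).subschemeι).obj (OO n k (-(φ i : ℤ))))
      (Coh.structureModule (ciIdeal G).subscheme)) p) ≃ₗ[k]
      (∀ i, Coh.HH (ciIdeal G).subscheme
        ((Scheme.Modules.pullback (ciIdeal G).subschemeι).obj (Twist.twistProjSpace n k (φ i : ℤ))) p) :=
    LinearEquiv.piCongrRight fun i => VarietyA.EulerLES.equivA k (e2 i) p
  exact ⟨(VarietyA.EulerLES.equivA k (homIsoLeft e _) p).trans (e1.trans e3)⟩

/-- cohomology of the normal module of a hypersurface, restricted to a subscheme -/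
theorem exists_homHyp {D : ℕ} (f : Form n k D) (hf : f ≠ 0) {E : Scheme.{u}}
    [E.Over (Spec (CommRingCat.of k))] (i : E ⟶ (hypIdeal f).subscheme) (p : ℕ) :
    Nonempty (Coh.HH E (homSheaf ((Scheme.Modules.pullback i).obj (Omega.conormal (hypIdeal f).subschemeι))
      (Coh.structureModule E)) p ≃ₗ[k]
      Coh.HH E ((Scheme.Modules.pullback (i ≫ (hypIdeal f).subschemeι)).obj
        (Twist.twistProjSpace n k (D : ℤ))) p) := by
  have e1 : ClSub.idealMod (hypIdeal f).subschemeι.ker ≅ Twist.twistProjSpace n k (-(D : ℤ)) := by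
    rw [(hypIdeal f).ker_subschemeι]
    exact (K568.HypIdMod.nonempty_iso f hf).some
  have e2 : (Scheme.Modules.pullback i).obj (Omega.conormal (hypIdeal f).subschemeι) ≅
      (Scheme.Modules.pullback (i ≫ (hypIdeal f).subschemeι)).obj (Twist.twistProjSpace n k (-(D : ℤ))) :=
    (Scheme.Modules.pullback i).mapIso ((Scheme.Modules.pullback (hypIdeal f).subschemeι).mapIso e1) ≪≫
      (Scheme.Modules.pullbackComp i (hypIdeal f).subschemeι).app _
  obtain ⟨e3⟩ := nonempty_homTwist (i ≫ (hypIdeal f).subschemeι) (D : ℤ)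
  exact ⟨VarietyA.EulerLES.equivA k (homIsoLeft e2 _ ≪≫ e3) p⟩

end

end K560.HomSum
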