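import Groth.Agent.Coherent.K51.CIGood
import Groth.Agent.ProjAut.K654.PnAut
import Groth.Agent.Fga.MumInputs
import Groth.Agent.VarietyA.EulerAdd

/-!
# Top cohomology and `h⁰` of the twists of a complete intersection

`Nice f d c φ` for `f : X ⟶ P^N`: `Good f d`, `H^d(X, f^* O(i)) = 0` for `i > c`, and
`dim H⁰(X, f^* O(i)) = φ i` (finite-dimensional).

* `Nice.step`: a divisor `J` with ideal `f^* O(-b)`;
* `nice_ci`: complete intersections, `φ = hfun N a`.
-/

set_option autoImplicit false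
universe u

open CategoryTheory AlgebraicGeometry Limits TopologicalSpace Opposite MvPolynomial

namespace K560.CICoh

open LefPen Groth.Agent Groth.Agent.Lefpen.H718.Chart Groth.Agent.Lefpen.H121.ChartLift Groth.Agent.Sga5
open Groth.Agent.Coherent.K51 Groth.Agent.Coherent.K51.CIGood

variable {X Y : Scheme.{u}} {N : ℕ} {k : Type u} [Field k]

/-- `dim H⁰(X, f^* O(i))`. -/
noncomputable def h0 (f : X ⟶ CohB1.ProjSpace N k) (i : ℤ) : ℕ :=
  letI : X.Over (Spec (CommRingCat.of k)) := ⟨f ≫ CohB1.ProjSpace.toSpec N k⟩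
  Module.finrank k (Coh.HH X ((Scheme.Modules.pullback f).obj (Twist.twistProjSpace N k i)) 0)

/-- `H⁰(X, f^* O(i))` is finite-dimensional. -/
def Fin0 (f : X ⟶ CohB1.ProjSpace N k) (i : ℤ) : Prop :=
  letI : X.Over (Spec (CommRingCat.of k)) := ⟨f ≫ CohB1.ProjSpace.toSpec N k⟩
  Module.Finite k (Coh.HH X ((Scheme.Modules.pullback f).obj (Twist.twistProjSpace N k i)) 0)

structure Nice (f : X ⟶ CohB1.ProjSpace N k) (d : ℕ) (c : ℤ) (φ : ℤ → ℤ) : Prop where
  good : Good f d
  top : ∀ i : ℤ, c < i → Subsingleton (Coh.HH X ((Scheme.Modules.pullback f).obj (Twist.twistProjSpace N k i)) d)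
  fin : ∀ i : ℤ, Fin0 f i
  eq : ∀ i : ℤ, (h0 f i : ℤ) = φ i

theorem isQCoh_pull (f : X ⟶ CohB1.ProjSpace N k) (i : ℤ) :
    Coh.IsQCoh ((Scheme.Modules.pullback f).obj (Twist.twistProjSpace N k i)) :=
  FormalA.PullbackQC.isQCoh_pullback f _
    (Ega2.QCohLocal.isQCoh_of_isFinLocFree
      (FormalA.ThickSurj.isFinLocFree_of_isInvertible (Ega3B.ProjFrame.isInvertible_twistProjSpace N k i)))

theorem exists_equiv_iso (e : X ≅ Y) (f : Y ⟶ CohB1.ProjSpace N k) (i : ℤ) :
    letI : X.Over (Spec (CommRingCat.of k)) := ⟨(e.hom ≫ f) ≫ CohB1.ProjSpace.toSpec N k⟩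
    letI : Y.Over (Spec (CommRingCat.of k)) := ⟨f ≫ CohB1.ProjSpace.toSpec N k⟩
    Nonempty (Coh.HH X ((Scheme.Modules.pullback (e.hom ≫ f)).obj (Twist.twistProjSpace N k i)) 0 ≃ₗ[k]
      Coh.HH Y ((Scheme.Modules.pullback f).obj (Twist.twistProjSpace N k i)) 0) := by
  let : X.Over (Spec (CommRingCat.of k)) := ⟨(e.hom ≫ f) ≫ CohB1.ProjSpace.toSpec N k⟩
  let : Y.Over (Spec (CommRingCat.of k)) := ⟨f ≫ CohB1.ProjSpace.toSpec N k⟩
  have hM := isQCoh_pull f i
  have h1 : Nonempty (Coh.HH X ((Scheme.Modules.pullback e.hom).obj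
      ((Scheme.Modules.pullback f).obj (Twist.twistProjSpace N k i))) 0 ≃ₗ[k]
      Coh.HH Y ((Scheme.Modules.pullback f).obj (Twist.twistProjSpace N k i)) 0) := by
    have := K654.AutPn.isIso_unit e.hom ((Scheme.Modules.pullback f).obj (Twist.twistProjSpace N k i))
    obtain ⟨e1⟩ := VarietyB.HHPush.exists_linearEquiv e.hom k
      (show e.hom ≫ (Y ↘ Spec (CommRingCat.of k)) = X ↘ Spec (CommRingCat.of k) from
        (Category.assoc _ _ _).symm)
      ((Scheme.Modules.pullback e.hom).obj ((Scheme.Modules.pullback f).obj (Twist.twistProjSpace N k i)))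
      (FormalA.PullbackQC.isQCoh_pullback e.hom _ hM) 0
    exact ⟨e1.symm.trans (VarietyA.EulerLES.equivA k
      (asIso ((Scheme.Modules.pullbackPushforwardAdjunction e.hom).unit.app _)).symm 0)⟩
  obtain ⟨e1⟩ := h1
  exact ⟨(VarietyA.EulerLES.equivA k ((Scheme.Modules.pullbackComp e.hom f).app _).symm 0).trans e1⟩

theorem Nice.iso_comp {f : Y ⟶ CohB1.ProjSpace N k} {d : ℕ} {c : ℤ} {φ : ℤ → ℤ} (h : Nice f d c φ) (e : X ≅ Y) :
    Nice (e.hom ≫ f) d c φ where
  good := h.good.iso_comp e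
  top i hi := by
    have h1 := subsingleton_HH_pullback_iso e _ d (h.top i hi)
    exact Flat2F.HHSeq.subsingleton_HH_of_iso ((Scheme.Modules.pullbackComp e.hom f).app _) d h1
  fin i := by
    let : X.Over (Spec (CommRingCat.of k)) := ⟨(e.hom ≫ f) ≫ CohB1.ProjSpace.toSpec N k⟩
    let : Y.Over (Spec (CommRingCat.of k)) := ⟨f ≫ CohB1.ProjSpace.toSpec N k⟩
    obtain ⟨e1⟩ := exists_equiv_iso e f i
    have := h.fin i
    unfold Fin0 at this ⊢
    exact Module.Finite.equiv e1.symm
  eq i := by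
    let : X.Over (Spec (CommRingCat.of k)) := ⟨(e.hom ≫ f) ≫ CohB1.ProjSpace.toSpec N k⟩
    let : Y.Over (Spec (CommRingCat.of k)) := ⟨f ≫ CohB1.ProjSpace.toSpec N k⟩
    obtain ⟨e1⟩ := exists_equiv_iso e f i
    rw [← h.eq i]
    exact congrArg Nat.cast e1.finrank_eq

/-- additivity for `H⁰` -/
theorem finrank_add [X.Over (Spec (CommRingCat.of k))] (S : ShortComplex X.Modules) (hS : S.ShortExact)
    (h1 : Subsingleton (Coh.HH X S.X₁ 1)) (hf : Module.Finite k (Coh.HH X S.X₂ 0)) :
    Module.Finite k (Coh.HH X S.X₃ 0) ∧ Module.finrank k (Coh.HH X S.X₂ 0) =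
      Module.finrank k (Coh.HH X S.X₁ 0) + Module.finrank k (Coh.HH X S.X₃ 0) := by
  have hs : Function.Surjective (VarietyA.EulerLES.mapA k S.g 0) := by
    intro x
    exact (VarietyA.EulerLES.exactA₃ k S hS 0 1 rfl x).mp (Subsingleton.elim _ _)
  refine ⟨Module.Finite.of_surjective _ hs, ?_⟩
  rw [VarietyA.EulerAdd.finrank_eq k S hS 0, ← VarietyA.EulerAdd.finrank_eq₀ k S hS,
    LinearMap.range_eq_top.mpr hs, finrank_top]

/-- The induction step. -/
theorem Nice.step {f : Y ⟶ CohB1.ProjSpace N k} {d : ℕ} {c : ℤ} {φ : ℤ → ℤ} (h : Nice f (d + 1) c φ)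
    (hd : 1 ≤ d) (J : Y.IdealSheafData) {b : ℕ}
    (hJ : Nonempty (ClSub.idealMod J ≅ (Scheme.Modules.pullback f).obj (Twist.twistProjSpace N k (-(b : ℤ))))) :
    Nice (J.subschemeι ≫ f) d (c + b) (fun i => φ i - φ (i - b)) := by
  have hinv : ∀ i : ℤ, PicF.IsInvertible ((Scheme.Modules.pullback f).obj (Twist.twistProjSpace N k i)) :=
    fun i => Fdesc.LocGen.isInvertible_pullback f (Ega3B.ProjFrame.isInvertible_twistProjSpace N k i)
  have hM : ∀ i : ℤ, Coh.IsQCoh ((Scheme.Modules.pullback f).obj (Twist.twistProjSpace N k i)) := isQCoh_pull f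
  have key : ∀ i : ℤ, Fin0 (J.subschemeι ≫ f) i ∧ h0 f i = h0 f (i - b) + h0 (J.subschemeι ≫ f) i := by
    intro i
    let : Y.Over (Spec (CommRingCat.of k)) := ⟨f ≫ CohB1.ProjSpace.toSpec N k⟩
    let : J.subscheme.Over (Spec (CommRingCat.of k)) := ⟨(J.subschemeι ≫ f) ≫ CohB1.ProjSpace.toSpec N k⟩
    obtain ⟨e⟩ := nonempty_tensor_ideal f J hJ i
    obtain ⟨w, hw⟩ := shortExact_ideal J
    have hM' := VarietyB.TensCoh.HasBases.of_isFinLocFree
      (FormalA.ThickSurj.isFinLocFree_of_isInvertible (hinv i))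
    have h3 := Sga67.TensorOps.tensor_shortExact (FormalA.ThickSurj.isFinLocFree_of_isInvertible (hinv i)) hw
    have e2 := VarietyA.EulerLES.equivA k (Ega2.Tens.runit
      ((Scheme.Modules.pullback f).obj (Twist.twistProjSpace N k i))).symm 0
    have f2 := h.fin i
    unfold Fin0 at f2
    have f2' := Module.Finite.equiv e2
    have h1 : Subsingleton (Coh.HH Y (CohB1.tensorMod ((Scheme.Modules.pullback f).obj
        (Twist.twistProjSpace N k i)) (ClSub.idealMod J)) 1) :=
      Flat2F.HHSeq.subsingleton_HH_of_iso e.symm 1 (h.good.van (i - b) 1 (by omega) (by omega))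
    obtain ⟨a1, a2⟩ := finrank_add _ h3 h1 f2'
    obtain ⟨e4⟩ := VarietyB.HHPush.exists_linearEquiv J.subschemeι k
      (show J.subschemeι ≫ (Y ↘ Spec (CommRingCat.of k)) = J.subscheme ↘ Spec (CommRingCat.of k) from
        (Category.assoc _ _ _).symm)
      ((Scheme.Modules.pullback J.subschemeι).obj
        ((Scheme.Modules.pullback f).obj (Twist.twistProjSpace N k i)))
      (FormalA.PullbackQC.isQCoh_pullback _ _ (hM i)) 0
    have e5 := VarietyA.EulerLES.equivA k ((Scheme.Modules.pullbackComp J.subschemeι f).app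
      (Twist.twistProjSpace N k i)) 0
    have e3 := VarietyA.EulerLES.equivA k (VarietyB.ProjForm.projIsoUnit J.subschemeι hM') 0
    have e6 := e3.trans (e4.trans e5)
    constructor
    · unfold Fin0
      exact @Module.Finite.equiv _ _ _ _ _ _ _ _ a1 e6
    · unfold h0
      rw [e2.finrank_eq]
      refine a2.trans ?_
      congr 1
      · exact (VarietyA.EulerLES.equivA k e 0).finrank_eq
      · exact e6.finrank_eq
  refine ⟨h.good.step J hJ, fun i hi => ?_, fun i => (key i).1, fun i => ?_⟩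
  · obtain ⟨e⟩ := nonempty_tensor_ideal f J hJ i
    have h1 := subsingleton_closed J (M := (Scheme.Modules.pullback f).obj (Twist.twistProjSpace N k i))
      (hinv i) d (h.good.van i d (by omega) (by omega))
      (Flat2F.HHSeq.subsingleton_HH_of_iso e.symm (d + 1) (h.top (i - b) (by omega)))
    exact Flat2F.HHSeq.subsingleton_HH_of_iso ((Scheme.Modules.pullbackComp J.subschemeι f).app _) d h1
  · have h1 := (key i).2
    have h2 := h.eq i
    have h3 := h.eq (i - b)
    change _ = φ i - φ (i - b)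
    omega

/-- `dim H⁰(P^N, O(i))`. -/
def hP (N : ℕ) (i : ℤ) : ℤ := if i < 0 then 0 else ((i.toNat + N).choose N : ℤ)

/-- The Hilbert function of a complete intersection of dimension `≥ 1`. -/
def hfun (N : ℕ) : ∀ {r : ℕ} (_ : Fin r → ℕ), ℤ → ℤ
  | 0, _, i => hP N i
  | _ + 1, a, i => hfun N (fun j => a j.castSucc) i - hfun N (fun j => a j.castSucc) (i - a (Fin.last _))

theorem nice_iso (hN : 1 ≤ N) (e : X ≅ CohB1.ProjSpace N k) : Nice e.hom N (-((N : ℤ) + 1)) (hP N) := by
  have key : Nice (𝟙 (CohB1.ProjSpace N k)) N (-((N : ℤ) + 1)) (hP N) := by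
    have hx : ∀ i : ℤ, Nonempty ((Scheme.Modules.pullback (𝟙 (CohB1.ProjSpace N k))).obj
        (Twist.twistProjSpace N k i) ≅ Twist.twistProjSpace N k i) := fun i =>
      ⟨(Scheme.Modules.pullbackId _).app _⟩
    refine ⟨good_iso (Iso.refl _), fun i hi => ?_, fun i => ?_, fun i => ?_⟩
    · obtain ⟨e⟩ := hx i
      exact Flat2F.HHSeq.subsingleton_HH_of_iso e.symm N (S0844.result k N i N (by omega) (by omega))
    · obtain ⟨e⟩ := hx i
      have := (Fga.MumInputs.finite_twist k N i).1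
      unfold Fin0
      rw [Category.id_comp]
      exact Module.Finite.equiv (VarietyA.EulerLES.equivA k e.symm 0)
    · obtain ⟨e⟩ := hx i
      unfold h0
      rw [Category.id_comp]
      refine (congrArg Nat.cast (VarietyA.EulerLES.equivA k e 0).finrank_eq).trans ?_
      unfold hP
      split_ifs with hi
      · have := S0844.result k N i 0 (by omega) (by omega)
        exact congrArg Nat.cast (Module.finrank_zero_of_subsingleton)
      · have h1 : i = (i.toNat : ℤ) := by omega
        have h2 := K654.AutPn.finrank_twist_nat (n := N) (k := k) i.toNat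
        rw [← h1] at h2
        exact congrArg Nat.cast h2
  have h1 := key.iso_comp e
  rwa [Category.comp_id] at h1

theorem nice_ci (hN : 1 ≤ N) : ∀ (r : ℕ) (_ : r + 1 ≤ N) (a : Fin r → ℕ) (G : ∀ j : Fin r, Form N k (a j)),
    CIReg.IsReg G → Nice (ciIdeal G).subschemeι (N - r) (-((N : ℤ) + 1) + ∑ j, (a j : ℤ)) (hfun N a)
  | 0, _, a, G, _ => by
    have h1 : ciIdeal G = ⊥ := by
      rw [ciIdeal, iSup_of_empty]
    have h2 : IsIso (ciIdeal G).subschemeι := by
      rw [h1]
      infer_instance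
    have := nice_iso hN (asIso (ciIdeal G).subschemeι)
    simpa [hfun] using this
  | r + 1, hr, a, G, hG => by
    have ih := nice_ci hN r (by omega) _ (fun j : Fin r => G j.castSucc) hG.castSucc
    have h1 := Nice.step (d := N - (r + 1)) (by
        have : N - (r + 1) + 1 = N - r := by omega
        rw [this]
        exact ih) (by omega)
      ((hypIdeal (G (Fin.last r))).comap (yι (fun j : Fin r => G j.castSucc)))
      (CIStep.nonempty_iso (fun j : Fin r => G j.castSucc) (G (Fin.last r)) hG.fn_mem_nonZeroDivisors)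
    obtain ⟨e, he⟩ := CIReg.exists_ciIso G
    rw [← he]
    have h2 := h1.iso_comp e
    rw [add_assoc, ← Fin.sum_univ_castSucc (fun j => (a j : ℤ))] at h2
    exact h2

end K560.CICoh
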