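import Groth.Agent.Fano.K560.FormMaps
import Groth.Agent.OmegaSh.K583.ConMap
import Groth.Agent.Sga2.LefPow644

/-!
# Extending maps along the conormal map of `E ⊂ V_+(f) ⊂ P^n`, `E` a complete intersection

`E = V_+(G_1, …, G_t) ⊂ V_+(f)`, `f = ∑ C_i G_i`.  If every form of degree `deg f` is
`∑ C_i a_i + ∑ b_i G_i` and `H¹(P, I_E(deg f)) = 0` then every map `i^* N_{V(f)/P} ⟶ O_E` extends to
`N_{E/P} ⟶ O_E` (conormal modules): `exists_extend`.
-/

set_option autoImplicit false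

universe u

open CategoryTheory CategoryTheory.Limits AlgebraicGeometry TopologicalSpace Opposite

namespace K560.ConLift

open LefPen K715.Geo K715.Gens K715.Res K715.SumSec K715.Pair K715.CIConormal K560.FormMaps
open Groth.Agent Groth.Agent.Lefpen.H705.HypIdeal Groth.Agent.Lefpen.H705.ChartPoly
open Groth.Agent.Fdesc.LocGen

variable {n t : ℕ} {k : Type u} [Field k]

/-- The equations generate the conormal module of a complete intersection. -/
theorem exists_gen {φ : Fin t → ℕ} (G : ∀ i : Fin t, Form n k (φ i))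
    (hdim : topologicalKrullDim ↥(ciIdeal G).subscheme ≤ (n - t : ℕ)) (htn : t ≤ n)
    {j : (ciIdeal G).subscheme ⟶ CohB1.ProjSpace n k} (hj : j = (ciIdeal G).subschemeι) :
    ∃ l : (∐ fun i : Fin t => OO n k (-(φ i : ℤ))) ⟶ ClSub.idealMod j.ker, Epi l ∧
      l ≫ ClSub.idealModι j.ker = co G ∧ IsIso ((Scheme.Modules.pullback j).map l) := by
  subst hj
  have hker : ∀ U : (CohB1.ProjSpace n k).affineOpens,
      (ciIdeal G).subschemeι.ker.ideal U = Groth.Agent.Krr.H478.ImIdeal.rg (co G) U.1 := by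
    intro U
    rw [(ciIdeal G).ker_subschemeι]
    exact ideal_eq_rg G U
  obtain ⟨l, hl, hl'⟩ := Groth.Agent.Krr.H478.ImIdeal.exists_factor (co G) (ciIdeal G).subschemeι.ker hker
  refine ⟨l, hl, hl', ?_⟩
  have h1 : Epi ((Scheme.Modules.pullback (ciIdeal G).subschemeι).map l) := inferInstance
  let l' : (Scheme.Modules.pullback (ciIdeal G).subschemeι).obj (∐ fun i : Fin t => OO n k (-(φ i : ℤ))) ⟶
    Omega.conormal (ciIdeal G).subschemeι := (Scheme.Modules.pullback (ciIdeal G).subschemeι).map l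
  have h2 : Epi l' := h1
  exact Groth.Agent.Krr.H478.EpiIso.isIso_of_epi l'
    (Groth.Agent.PerfB.FibreConc.isFinLocFreeOfRank_pullback _ (isFinLocFreeOfRank φ))
    (K715.CIReg.isFinLocFreeOfRank_conormal G hdim htn)

/-- The equation generates the ideal of a hypersurface. -/
theorem exists_hyp {D : ℕ} (f : Form n k D) :
    ∃ h : OO n k (-(D : ℤ)) ⟶ ClSub.idealMod (hypIdeal f).subschemeι.ker, Epi h ∧
      h ≫ ClSub.idealModι (hypIdeal f).subschemeι.ker = mulO f (-(D : ℤ)) (by omega) := by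
  have hker : ∀ U : (CohB1.ProjSpace n k).affineOpens,
      (hypIdeal f).subschemeι.ker.ideal U =
        Groth.Agent.Krr.H478.ImIdeal.rg (co (fun _ : Fin 1 => f)) U.1 := by
    intro U
    rw [(hypIdeal f).ker_subschemeι]
    have h := ideal_eq_rg (fun _ : Fin 1 => f) U
    rw [← h]
    congr 1
    exact (iSup_const (ι := Fin 1)).symm
  obtain ⟨l, hl, hl'⟩ := Groth.Agent.Krr.H478.ImIdeal.exists_factor (co (fun _ : Fin 1 => f))
    (hypIdeal f).subschemeι.ker hker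
  refine ⟨Sigma.ι (fun _ : Fin 1 => OO n k (-(D : ℤ))) 0 ≫ l, ?_, ?_⟩
  · have : Epi (Sigma.ι (fun _ : Fin 1 => OO n k (-(D : ℤ))) 0) :=
      ⟨fun a b hab => Sigma.hom_ext _ _ fun j => by
        have hj : j = 0 := Subsingleton.elim _ _
        subst hj
        exact hab⟩
    exact epi_comp _ _
  · rw [Category.assoc, hl']
    exact Sigma.ι_desc _ _

theorem mulO_add {d : ℕ} (G H : Form n k d) (a : ℤ) (h : 0 = a + d) :
    mulO (G + H) a h = mulO G a h + mulO H a h := by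
  refine hom_ext_eg fun j U hU => ?_
  have h1 : (mulO G a h + mulO H a h).app U (eg j a hU) =
      (mulO G a h).app U (eg j a hU) + (mulO H a h).app U (eg j a hU) := rfl
  rw [h1, mulO_eg1, mulO_eg1, mulO_eg1]
  have h2 : rho j hU (G + H).1 = rho j hU G.1 + rho j hU H.1 := map_add _ _ _
  rw [h2]
  rfl

/-- Lifting of maps, variant. -/
theorem exists_lift_of_eq (I : (CohB1.ProjSpace n k).IdealSheafData) {j : I.subscheme ⟶ CohB1.ProjSpace n k}
    (hj : j = I.subschemeι) (e : ℤ)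
    (hH : Subsingleton (Coh.HH (CohB1.ProjSpace n k) (CohB1.tensorMod (Twist.twistProjSpace n k e)
      (ClSub.idealMod I)) 1))
    (ψ : OO n k (-e) ⟶ (Scheme.Modules.pushforward j).obj (Coh.structureModule I.subscheme)) :
    ∃ ψ' : OO n k (-e) ⟶ Coh.structureModule (CohB1.ProjSpace n k), ψ' ≫ FormalA.ThickSurj.qmap j = ψ := by
  subst hj
  exact exists_lift I e hH ψ

/-- The inclusion of ideals as a map of modules. -/
theorem exists_incl {X : Scheme.{u}} {I J : X.IdealSheafData} (h : I ≤ J) :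
    ∃ ι : ClSub.idealMod I ⟶ ClSub.idealMod J, ι ≫ ClSub.idealModι J = ClSub.idealModι I := by
  have h1 : ClSub.idealModι I ≫ ClSub.toSubscheme J = 0 := by
    have h2 : ClSub.idealModι I ≫ ClSub.toSubscheme I = 0 := kernel.condition _
    rw [← Sga2.LefPow644.toSubscheme_quotMap h, ← Category.assoc, h2, zero_comp]
  exact ⟨kernel.lift _ _ h1, kernel.lift_ι _ _ _⟩

theorem idealModι_qmap {X Z : Scheme.{u}} (j : Z ⟶ X) [QuasiCompact j] :
    ClSub.idealModι j.ker ≫ FormalA.ThickSurj.qmap j = 0 := by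
  have h1 := Groth.Agent.Krr.H496.ConMapSec.idealModKerIso_hom_ι j
  have h2 : FormalA.ThickSurj.qmap j = ClSub.unitToPush j := rfl
  rw [h2, ← h1, Category.assoc, kernel.condition, comp_zero]

open OmegaSh in
/-- The conormal map of `E ⊂ X ⊂ P` is the pull-back of the inclusion of ideals. -/
theorem eq_pullbackComp {E X P : Scheme.{u}} (i : E ⟶ X) (e : X ⟶ P) [QuasiCompact i] [QuasiCompact e]
    (a : (Scheme.Modules.pullback i).obj (Omega.conormal e) ⟶ Omega.conormal (i ≫ e))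
    (ha : IsConormalMap (i ≫ e) e (𝟙 P) i a)
    (ι : ClSub.idealMod e.ker ⟶ ClSub.idealMod (i ≫ e).ker)
    (hι : ι ≫ ClSub.idealModι (i ≫ e).ker = ClSub.idealModι e.ker) :
    a = (Scheme.Modules.pullbackComp i e).hom.app (ClSub.idealMod e.ker) ≫
      (Scheme.Modules.pullback (i ≫ e)).map ι := by
  refine K583.ConMap.pull_pull_hom_ext (M := ClSub.idealMod e.ker) e i fun U s => ?_
  have h1 := ha.2 U s (ι.app U s) (by
    have h2 : (ι ≫ ClSub.idealModι (i ≫ e).ker).app U s = (ClSub.idealModι e.ker).app U s := by rw [hι]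
    exact h2) (i ⁻¹ᵁ (e ⁻¹ᵁ U)) le_rfl le_rfl
  have e3 : (homOfLE (le_refl (i ⁻¹ᵁ (e ⁻¹ᵁ U)))).op = 𝟙 _ := rfl
  rw [e3, CategoryTheory.Functor.map_id] at h1
  refine Eq.trans h1 ?_
  have h4 := Groth.Agent.Fdesc.LocGen.pullSec_comp' i e (M := ClSub.idealMod e.ker) (U := U) s
  have h5 := Groth.Agent.Krr.H487.LocBasisPull.appS_pbS (i ≫ e) ι (U := U) s
  have h6 : (Omega.conormal (i ≫ e)).presheaf.map (homOfLE (le_refl (i ⁻¹ᵁ (e ⁻¹ᵁ U)))).op
      (show Γ(Omega.conormal (i ≫ e), i ⁻¹ᵁ (e ⁻¹ᵁ U)) from conormalSect (i ≫ e) U (ι.app U s)) =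
      (show Γ(Omega.conormal (i ≫ e), i ⁻¹ᵁ (e ⁻¹ᵁ U)) from conormalSect (i ≫ e) U (ι.app U s)) := by
    rw [e3, CategoryTheory.Functor.map_id]
    rfl
  refine Eq.trans h6 ?_
  refine Eq.trans h5.symm ?_
  exact congrArg (fun y => ((Scheme.Modules.pullback (i ≫ e)).map ι).app (i ⁻¹ᵁ (e ⁻¹ᵁ U)) y) h4.symm

variable {φ ψ : Fin t → ℕ} {D : ℕ}

theorem exists_form (C : ∀ i : Fin t, Form n k (ψ i)) (G : ∀ i : Fin t, Form n k (φ i))
    (hD : ∀ i, D = ψ i + φ i) : ∃ g : Form n k D, g.1 = ∑ i, (C i).1 * (G i).1 := by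
  refine ⟨⟨∑ i, (C i).1 * (G i).1, ?_⟩, rfl⟩
  refine Submodule.sum_mem _ fun i _ => ?_
  have h := SetLike.mul_mem_graded (A := CohB1.polyGrading n k) (C i).2 (G i).2
  rwa [← hD i] at h

open OmegaSh in
/-- **Extension along the conormal map.** -/
theorem exists_extend (G : ∀ i : Fin t, Form n k (φ i)) (C : ∀ i : Fin t, Form n k (ψ i)) (f : Form n k D)
    (hD : ∀ i, D = ψ i + φ i) (hf : f.1 = ∑ i, (C i).1 * (G i).1)
    (hdim : topologicalKrullDim ↥(ciIdeal G).subscheme ≤ (n - t : ℕ)) (htn : t ≤ n)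
    (halg : ∀ g : Form n k D, ∃ (a : ∀ i, Form n k (φ i)) (b : ∀ i, Form n k (ψ i)),
      g.1 = ∑ i, (C i).1 * (a i).1 + ∑ i, (b i).1 * (G i).1)
    (hH : Subsingleton (Coh.HH (CohB1.ProjSpace n k) (CohB1.tensorMod (Twist.twistProjSpace n k (D : ℤ))
      (ClSub.idealMod (ciIdeal G))) 1))
    {X : Scheme.{u}} (e : X ⟶ CohB1.ProjSpace n k) [QuasiCompact e]
    (he : ∃ h : OO n k (-(D : ℤ)) ⟶ ClSub.idealMod e.ker, Epi h ∧
      h ≫ ClSub.idealModι e.ker = mulO f (-(D : ℤ)) (by omega))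
    (i : (ciIdeal G).subscheme ⟶ X) [QuasiCompact i] (hi : i ≫ e = (ciIdeal G).subschemeι)
    (a : (Scheme.Modules.pullback i).obj (Omega.conormal e) ⟶ Omega.conormal (i ≫ e))
    (ha : IsConormalMap (i ≫ e) e (𝟙 _) i a)
    (θ : (Scheme.Modules.pullback i).obj (Omega.conormal e) ⟶ Coh.structureModule (ciIdeal G).subscheme) :
    ∃ Θ : Omega.conormal (i ≫ e) ⟶ Coh.structureModule (ciIdeal G).subscheme, a ≫ Θ = θ := by
  obtain ⟨l, hl, hl', hiso⟩ := exists_gen G hdim htn hi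
  obtain ⟨h, hh, hh'⟩ := he
  obtain ⟨ι, hι⟩ := exists_incl (Scheme.Hom.le_ker_comp i e)
  have ha' := eq_pullbackComp i e a ha ι hι
  -- the transpose of `θ`
  let adj := Scheme.Modules.pullbackPushforwardAdjunction (i ≫ e)
  let θ' : (Scheme.Modules.pullback (i ≫ e)).obj (ClSub.idealMod e.ker) ⟶
      Coh.structureModule (ciIdeal G).subscheme :=
    (Scheme.Modules.pullbackComp i e).inv.app (ClSub.idealMod e.ker) ≫ θ
  let θb := adj.homEquiv _ _ θ'
  obtain ⟨g', hg'⟩ := exists_lift_of_eq (ciIdeal G) hi (D : ℤ) hH (h ≫ θb)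
  obtain ⟨g, rfl⟩ := exists_mulO (d := D) (a := -(D : ℤ)) (by omega) g'
  obtain ⟨α, β, hab⟩ := halg g
  let q := FormalA.ThickSurj.qmap (i ≫ e)
  let Ψ : (∐ fun i : Fin t => OO n k (-(φ i : ℤ))) ⟶
      (Scheme.Modules.pushforward (i ≫ e)).obj (Coh.structureModule (ciIdeal G).subscheme) :=
    Sigma.desc fun i => mulO (α i) (-(φ i : ℤ)) (by omega) ≫ q
  let s : OO n k (-(D : ℤ)) ⟶ ∐ fun i : Fin t => OO n k (-(φ i : ℤ)) :=
    ∑ i, mulF (C i) (-(D : ℤ)) (-(φ i : ℤ)) (by have := hD i; omega) ≫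
      Sigma.ι (fun i : Fin t => OO n k (-(φ i : ℤ))) i
  have hG : ∀ i : Fin t, mulO (G i) (-(φ i : ℤ)) (by omega) ≫ q = 0 := by
    intro i
    have h1 : mulO (G i) (-(φ i : ℤ)) (by omega) = Sigma.ι (fun i : Fin t => OO n k (-(φ i : ℤ))) i ≫ co G :=
      (Sigma.ι_desc (fun i : Fin t => mulO (G i) (-(φ i : ℤ)) (by omega)) i).symm
    rw [h1, ← hl', Category.assoc, Category.assoc, idealModι_qmap, comp_zero, comp_zero]
  -- `g = ∑ C a + ∑ b G`
  have hD1 : ∀ i, (-(φ i : ℤ)) = -(D : ℤ) + ψ i := fun i => by have := hD i; omega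
  have hφ : ∀ i, 0 = (-(φ i : ℤ)) + φ i := fun i => by omega
  have hD0 : 0 = (-(D : ℤ)) + D := by omega
  obtain ⟨g1, e1⟩ := exists_form C α hD
  obtain ⟨g2, e2⟩ := exists_form β G hD
  obtain rfl : g = g1 + g2 := Subtype.ext (by rw [hab, ← e1, ← e2]; rfl)
  have hs : s ≫ Ψ = h ≫ θb := by
    have s1 := sum_mulF_mulO C α g1 e1 _ hD1 hφ hD0
    have s2 := sum_mulF_mulO β G g2 e2 _ hD1 hφ hD0
    have s3 : mulO g2 (-(D : ℤ)) hD0 ≫ q = 0 := by
      rw [← s2, Preadditive.sum_comp]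
      refine Finset.sum_eq_zero fun i _ => ?_
      rw [Category.assoc, hG i, comp_zero]
    have s4 : s ≫ Ψ = mulO g1 (-(D : ℤ)) hD0 ≫ q := by
      rw [← s1, Preadditive.sum_comp, Preadditive.sum_comp]
      refine Finset.sum_congr rfl fun i _ => ?_
      rw [Category.assoc, Category.assoc]
      congr 1
      exact Sigma.ι_desc _ _
    rw [s4, ← hg', mulO_add, Preadditive.add_comp]
    exact ((congrArg (fun y => mulO g1 (-(D : ℤ)) hD0 ≫ q + y) s3).trans (add_zero _)).symm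
  have hs2 : h ≫ ι = s ≫ l := by
    rw [← cancel_mono (ClSub.idealModι (i ≫ e).ker), Category.assoc, Category.assoc, hι, hh', hl',
      ← sum_mulF_mulO C G f hf _ hD1 hφ hD0, Preadditive.sum_comp]
    refine Finset.sum_congr rfl fun i _ => ?_
    rw [Category.assoc]
    congr 1
    exact (Sigma.ι_desc (fun i : Fin t => mulO (G i) (-(φ i : ℤ)) (by omega)) i).symm
  let L := (Scheme.Modules.pullback (i ≫ e)).map l
  have hL : IsIso L := hiso
  let Θ : (Scheme.Modules.pullback (i ≫ e)).obj (ClSub.idealMod (i ≫ e).ker) ⟶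
      Coh.structureModule (ciIdeal G).subscheme := inv L ≫ (adj.homEquiv _ _).symm Ψ
  refine ⟨Θ, ?_⟩
  have h1 : L ≫ Θ = (adj.homEquiv _ _).symm Ψ := IsIso.hom_inv_id_assoc L _
  let Θb := adj.homEquiv _ _ Θ
  have h2 : l ≫ Θb = Ψ := by
    have h3 := adj.homEquiv_naturality_left l Θ
    have h4 : adj.homEquiv _ _ (L ≫ Θ) = Ψ := by
      rw [h1, Equiv.apply_symm_apply]
    exact h3.symm.trans h4
  have h5 : ι ≫ Θb = θb := by
    rw [← cancel_epi h, ← Category.assoc, hs2, Category.assoc, h2, hs]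
  have h6 : (Scheme.Modules.pullback (i ≫ e)).map ι ≫ Θ = θ' := by
    apply (adj.homEquiv _ _).injective
    exact (adj.homEquiv_naturality_left ι Θ).trans h5
  have h7 : (Scheme.Modules.pullbackComp i e).hom.app (ClSub.idealMod e.ker) ≫
      ((Scheme.Modules.pullback (i ≫ e)).map ι ≫ Θ) = θ := by
    rw [h6]
    exact Iso.hom_inv_id_app_assoc _ _ _
  rw [ha']
  exact (Category.assoc _ _ _).trans h7

end K560.ConLift
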