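import Groth.Agent.Fano.K560.ConLift
import Groth.Agent.Fano.K560.HomSum
import Groth.Agent.Fano.K560.CICoh
import Groth.Agent.SDiv.K474.ConShort
import Groth.Agent.Dual.H366.ConSec

/-!
# Cohomology of the normal module of a complete intersection curve in a hypersurface
-/

set_option autoImplicit false

universe u

open CategoryTheory CategoryTheory.Limits AlgebraicGeometry TopologicalSpace Opposite

namespace K560.ConSeq

open LefPen K715.Geo K715.Gens K715.Res K715.SumSec K715.Pair K715.CIConormal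
open Groth.Agent Groth.Agent.Lefpen.H705.HypIdeal Groth.Agent.Lefpen.H705.ChartPoly
open Groth.Agent.CohqB.HomSheaf Groth.Agent.Sga2.PnHomAdj Groth.Agent.Sga2.PnHomExact Groth.Agent.Sga2.PnCoprod

section

variable {n : ℕ} {k : Type u} [Field k]

/-- `H¹(P, O(d) ⊗ I) = 0` if the sections of `O(d)` lift. -/
theorem h1_ideal (I : (CohB1.ProjSpace n k).IdealSheafData) (d : ℤ)
    (h2 : Subsingleton (Coh.HH (CohB1.ProjSpace n k) (Twist.twistProjSpace n k d) 1))
    (hs : Function.Surjective (((Scheme.Modules.pullbackPushforwardAdjunction I.subschemeι).unit.app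
      (Twist.twistProjSpace n k d)).app ⊤)) :
    Subsingleton (Coh.HH (CohB1.ProjSpace n k) (CohB1.tensorMod (Twist.twistProjSpace n k d)
      (ClSub.idealMod I)) 1) := by
  obtain ⟨w, hw⟩ := Coherent.K51.CIGood.shortExact_ideal I
  have hinv := Ega3B.ProjFrame.isInvertible_twistProjSpace n k d
  have hN' := VarietyB.TensCoh.HasBases.of_isFinLocFree (FormalA.ThickSurj.isFinLocFree_of_isInvertible hinv)
  have h3 := Sga67.TensorOps.tensor_shortExact (FormalA.ThickSurj.isFinLocFree_of_isInvertible hinv) hw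
  refine Sga67.RegResol.hh_one h3 ?_ (Flat2F.HHSeq.subsingleton_HH_of_iso (Ega2.Tens.runit _).symm 1 h2)
  intro y
  have ht := FormalA.ThickSurj.tmap_qmap I.subschemeι (Twist.twistProjSpace n k d) hN'
  obtain ⟨z, hz⟩ := hs ((VarietyB.ProjForm.projIsoUnit I.subschemeι hN').hom.app ⊤ y)
  refine ⟨(Ega2.Tens.runit (Twist.twistProjSpace n k d)).inv.app ⊤ z, ?_⟩
  have h4 : Function.Injective ((VarietyB.ProjForm.projIsoUnit I.subschemeι hN').hom.app ⊤) :=
    Function.LeftInverse.injective (g := (VarietyB.ProjForm.projIsoUnit I.subschemeι hN').inv.app ⊤)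
      fun y => congr(($((VarietyB.ProjForm.projIsoUnit I.subschemeι hN').hom_inv_id)).app ⊤ y)
  apply h4
  rw [← hz]
  have h5 : (Ega2.Tens.runit (Twist.twistProjSpace n k d)).hom.app ⊤
      ((Ega2.Tens.runit (Twist.twistProjSpace n k d)).inv.app ⊤ z) = z :=
    congr(($((Ega2.Tens.runit (Twist.twistProjSpace n k d)).inv_hom_id)).app ⊤ z)
  refine Eq.trans ?_ (congrArg (((Scheme.Modules.pullbackPushforwardAdjunction I.subschemeι).unit.app
      (Twist.twistProjSpace n k d)).app ⊤) h5)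
  exact congr(($ht).app ⊤ ((Ega2.Tens.runit (Twist.twistProjSpace n k d)).inv.app ⊤ z))

theorem key {E : Scheme.{u}} [E.Over (Spec (CommRingCat.of k))] {A B C : E.Modules} (a : A ⟶ B) (b : B ⟶ C)
    (w : a ≫ b = 0) (hS : (ShortComplex.mk a b w).ShortExact) (hA : Coh.IsQCoh A) (hB : Coh.IsQCoh B)
    (hC : FlatMod.IsFinLocFree C) (O : E.Modules) (hlift : ∀ θ : A ⟶ O, ∃ Θ : B ⟶ O, a ≫ Θ = θ)
    (h1 : Subsingleton (Coh.HH E (homSheaf B O) 1)) (h0 : Module.Finite k (Coh.HH E (homSheaf B O) 0)) :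
    Subsingleton (Coh.HH E (homSheaf C O) 1) ∧
    Module.finrank k (Coh.HH E (homSheaf B O) 0) =
      Module.finrank k (Coh.HH E (homSheaf C O) 0) + Module.finrank k (Coh.HH E (homSheaf A O) 0) := by
  have hT := shortExact_homSC hS hA hB hC O
  have hsurj : Function.Surjective ((homSC (ShortComplex.mk a b w) O).g.app ⊤) := by
    intro y
    obtain ⟨Θ, hΘ⟩ := hlift (topEquiv A O y)
    refine ⟨(topEquiv B O).symm Θ, ?_⟩
    apply (topEquiv A O).injective
    refine Eq.trans ?_ hΘ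
    rw [← (topEquiv B O).apply_symm_apply Θ, AddEquiv.symm_apply_apply]
    rfl
  have h2 := Sga67.RegResol.hh_one hT hsurj h1
  exact ⟨h2, (K560.CICoh.finrank_add _ hT h2 h0).2⟩

variable {t D : ℕ} {φ ψ : Fin t → ℕ}

/-- **The normal module of a complete intersection in a hypersurface.** -/
theorem normal (G : ∀ i : Fin t, Form n k (φ i)) (C : ∀ i : Fin t, Form n k (ψ i)) (f : Form n k D)
    (hD : ∀ i, D = ψ i + φ i) (hf : f.1 = ∑ i, (C i).1 * (G i).1) (hf0 : f ≠ 0)
    (hdim : topologicalKrullDim ↥(ciIdeal G).subscheme ≤ (n - t : ℕ)) (htn : t ≤ n)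
    (halg : ∀ g : Form n k D, ∃ (a : ∀ i, Form n k (φ i)) (b : ∀ i, Form n k (ψ i)),
      g.1 = ∑ i, (C i).1 * (a i).1 + ∑ i, (b i).1 * (G i).1)
    (hH : Subsingleton (Coh.HH (CohB1.ProjSpace n k) (CohB1.tensorMod (Twist.twistProjSpace n k (D : ℤ))
      (ClSub.idealMod (ciIdeal G))) 1))
    [(ciIdeal G).subscheme.Over (Spec (CommRingCat.of k))]
    (i : (ciIdeal G).subscheme ⟶ (hypIdeal f).subscheme) [IsImmersion i] [QuasiCompact i]
    (hi : i ≫ (hypIdeal f).subschemeι = (ciIdeal G).subschemeι)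
    (hreg : RegImm.IsRegularImmersion RegImm.Kind.h1 i)
    (h1 : ∀ a, Subsingleton (Coh.HH (ciIdeal G).subscheme
      ((Scheme.Modules.pullback (ciIdeal G).subschemeι).obj (Twist.twistProjSpace n k (φ a : ℤ))) 1))
    (h0 : ∀ a, Module.Finite k (Coh.HH (ciIdeal G).subscheme
      ((Scheme.Modules.pullback (ciIdeal G).subschemeι).obj (Twist.twistProjSpace n k (φ a : ℤ))) 0)) :
    Subsingleton (Coh.HH (ciIdeal G).subscheme (homSheaf (Omega.conormal i)
      (Coh.structureModule (ciIdeal G).subscheme)) 1) ∧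
    ∑ a, Module.finrank k (Coh.HH (ciIdeal G).subscheme
      ((Scheme.Modules.pullback (ciIdeal G).subschemeι).obj (Twist.twistProjSpace n k (φ a : ℤ))) 0) =
    Module.finrank k (Coh.HH (ciIdeal G).subscheme (homSheaf (Omega.conormal i)
      (Coh.structureModule (ciIdeal G).subscheme)) 0) +
    Module.finrank k (Coh.HH (ciIdeal G).subscheme
      ((Scheme.Modules.pullback (ciIdeal G).subschemeι).obj (Twist.twistProjSpace n k (D : ℤ))) 0) := by
  have w1 : (i ≫ (hypIdeal f).subschemeι) ≫ 𝟙 _ = i ≫ (hypIdeal f).subschemeι := Category.comp_id _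
  have w2 : i ≫ (hypIdeal f).subschemeι = 𝟙 _ ≫ (i ≫ (hypIdeal f).subschemeι) := (Category.id_comp _).symm
  have ha := K583.ConMap.isConormalMap w1
  have hb := K583.ConMap.isConormalMap w2
  have hS := Groth.Agent.SDiv.K474.ConShort.shortExact ha hb hreg
  obtain ⟨e0⟩ := HomSum.exists_homConormal φ G hdim htn hi 0
  obtain ⟨e1⟩ := HomSum.exists_homConormal φ G hdim htn hi 1
  obtain ⟨e2⟩ := HomSum.exists_homHyp f hf0 i 0
  rw [← hi] at h1 h0 ⊢
  have key := key (k := k) _ _ _ hS
    (FormalA.PullbackQC.isQCoh_pullback i _ (Dual.H366.ConSec.isQCoh_conormal _))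
    (Dual.H366.ConSec.isQCoh_conormal _) (Groth.Agent.SDiv.K474.ConShort.isFinLocFree_of_h1 i hreg)
    (Coh.structureModule (ciIdeal G).subscheme)
    (fun θ => ConLift.exists_extend G C f hD hf hdim htn halg hH (hypIdeal f).subschemeι
      (ConLift.exists_hyp f) i hi _ ha θ)
    (e1.toEquiv.subsingleton) (Module.Finite.equiv e0.symm)
  refine ⟨key.1, ?_⟩
  rw [← e2.finrank_eq, ← key.2, e0.finrank_eq, Module.finrank_pi_fintype]

end

end K560.ConSeq
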