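import Groth.Agent.Fano.K715.NormalH
import Groth.Agent.Fano.K715.CIConormal
import Groth.Agent.VBPn.K699.TwHom
import Groth.Agent.Sga67.RegResol
import Groth.Agent.Coherent.K51.CIGood

/-!
# Maps from `O(-d)` to the structure sheaf and to the structure sheaf of a closed subscheme of `P^n`

* `hom_ext_eg`, `sum_mulF_mulO`;
* `exists_mulO`: every map `O(-d) ⟶ O` is multiplication by a form;
* `exists_lift`: `H¹(P, O(e) ⊗ I) = 0` implies that maps `O(-e) ⟶ i_* O` lift to `O`.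
-/

set_option autoImplicit false

universe u

open CategoryTheory CategoryTheory.Limits AlgebraicGeometry TopologicalSpace Opposite

namespace K560.FormMaps

open LefPen K715.Geo K715.Gens K715.Res K715.SumSec K715.Pair
open Groth.Agent Groth.Agent.Lefpen.H705.HypIdeal Groth.Agent.Lefpen.H705.ChartPoly
open Groth.Agent.Fdesc.LocGen Groth.Agent.CohqB.HomSheaf Groth.Agent.Sga2.PnHomAdj

variable {n : ℕ} {k : Type u} [Field k]

theorem hom_ext_eg {d : ℤ} {M : (CohB1.ProjSpace n k).Modules} {α β : OO n k d ⟶ M}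
    (h : ∀ (j : Fin (n + 1)) (U : (CohB1.ProjSpace n k).Opens) (hU : U ≤ chart n k j),
      α.app U (eg j d hU) = β.app U (eg j d hU)) : α = β := by
  refine hom_eq α β fun j V hV s => ?_
  obtain ⟨a, rfl⟩ := exists_smul_eg j hV.2 s
  rw [Scheme.Modules.Hom.app_smul, Scheme.Modules.Hom.app_smul, h j V hV.2]

theorem mulO_eg1 {d : ℕ} (G : Form n k d) (a : ℤ) (h : 0 = a + d) (j : Fin (n + 1))
    {U : (CohB1.ProjSpace n k).Opens} (hU : U ≤ chart n k j) :
    (mulO G a h).app U (eg j a hU) = ofFun (rho j hU G.1) := by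
  have h1 := mulO_eg G a h j hU 1
  rwa [one_smul, one_mul] at h1

/-- `∑ G_i H_i`, as a map `O(a) ⟶ O`. -/
theorem sum_mulF_mulO {m D : ℕ} {d e : Fin m → ℕ} (G : ∀ i, Form n k (d i)) (H : ∀ i, Form n k (e i))
    (K : Form n k D) (hK : K.1 = ∑ i, (G i).1 * (H i).1) {a : ℤ} (b : Fin m → ℤ) (hb : ∀ i, b i = a + d i)
    (h0 : ∀ i, 0 = b i + e i) (ha : 0 = a + D) :
    ∑ i, mulF (G i) a (b i) (hb i) ≫ mulO (H i) (b i) (h0 i) = mulO K a ha := by
  refine hom_ext_eg fun j U hU => ?_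
  have h1 : (∑ i, mulF (G i) a (b i) (hb i) ≫ mulO (H i) (b i) (h0 i)).app U (eg j a hU) =
      ∑ i, (mulF (G i) a (b i) (hb i) ≫ mulO (H i) (b i) (h0 i)).app U (eg j a hU) := sum_app _ _
  have h2 : ∀ i, (mulF (G i) a (b i) (hb i) ≫ mulO (H i) (b i) (h0 i)).app U (eg j a hU) =
      ofFun (rho j hU (G i).1 * rho j hU (H i).1) := by
    intro i
    change (mulO (H i) (b i) (h0 i)).app U ((mulF (G i) a (b i) (hb i)).app U (eg j a hU)) = _
    rw [mulF_eg, mulO_eg]
  rw [h1, Finset.sum_congr rfl fun i _ => h2 i, mulO_eg1, hK, map_sum]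
  have h3 : ∀ i, rho j hU ((G i).1 * (H i).1) = rho j hU (G i).1 * rho j hU (H i).1 := fun i => map_mul _ _ _
  rw [Finset.sum_congr rfl fun i _ => h3 i]
  exact (map_sum (AddMonoidHom.mk' (fun f : Γ(CohB1.ProjSpace n k, U) => ofFun f) (fun _ _ => rfl)) _ _).symm

/-- maps `O(a) ⟶ O(0)` are multiplications -/
theorem exists_mulF {d : ℕ} {a b : ℤ} (h : b = a + d) (φ : OO n k a ⟶ OO n k b) :
    ∃ G : Form n k d, φ = mulF G a b h := by
  obtain ⟨G, hG⟩ := K699.TwHom.exists_mulMap (n := n) (R := k) h.symm φ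
  refine ⟨G, hG.trans ?_⟩
  apply hom_ext_eg
  intro j U hU
  apply vl_ext
  intro x
  exact (K699.TwHom.evT_mulMap G h.symm (eg j a hU) x.1 x.2).trans (vl_mulF G a b h (eg j a hU) x).symm

theorem exists_mulO {d : ℕ} {a : ℤ} (h : 0 = a + d) (φ : OO n k a ⟶ Coh.structureModule (CohB1.ProjSpace n k)) :
    ∃ G : Form n k d, φ = mulO G a h := by
  obtain ⟨G, hG⟩ := exists_mulF h (φ ≫ unitO n k)
  refine ⟨G, ?_⟩
  rw [mulO, ← hG, Category.assoc, IsIso.hom_inv_id, Category.comp_id]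

/-- Lifting of maps `O(-e) ⟶ i_* O`. -/
theorem exists_lift (I : (CohB1.ProjSpace n k).IdealSheafData) (e : ℤ)
    (hH : Subsingleton (Coh.HH (CohB1.ProjSpace n k) (CohB1.tensorMod (Twist.twistProjSpace n k e)
      (ClSub.idealMod I)) 1))
    (ψ : OO n k (-e) ⟶ (Scheme.Modules.pushforward I.subschemeι).obj (Coh.structureModule I.subscheme)) :
    ∃ ψ' : OO n k (-e) ⟶ Coh.structureModule (CohB1.ProjSpace n k), ψ' ≫ FormalA.ThickSurj.qmap I.subschemeι = ψ := by
  obtain ⟨w, hw⟩ := Coherent.K51.CIGood.shortExact_ideal I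
  have hf : FlatMod.IsFinLocFree (OO n k (-e)) := Ega2.QCohLocal.isFinLocFree_of_rank
    (Ega2.QCohLocal.isFinLocFreeOfRank_one_iff.mpr (PerfB.TwistDer.isInvertible_tw n k (-e)))
  have := hw.mono_f
  have hI : Coh.IsQCoh (ClSub.idealMod I) := PerfA.IdealModule.isQCoh_idealMod I
  have h1 : (K715.HomSeq.homSR (OO n k (-e)) (ShortComplex.mk (ClSub.idealModι I)
      (FormalA.ThickSurj.qmap I.subschemeι) w)).ShortExact := by
    have h2 : Mono (K715.HomSeq.homSR (OO n k (-e)) (ShortComplex.mk (ClSub.idealModι I)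
      (FormalA.ThickSurj.qmap I.subschemeι) w)).f := K715.HomSeq.mono_homMapRight _ _
    have h3 : Epi (K715.HomSeq.homSR (OO n k (-e)) (ShortComplex.mk (ClSub.idealModι I)
      (FormalA.ThickSurj.qmap I.subschemeι) w)).g := K715.HomSeq.epi_homMapRight hf hw hI
    exact { exact := K715.HomSeq.exact_homSR _ hw.exact }
  have h4 : Subsingleton (Coh.HH (CohB1.ProjSpace n k) (homSheaf (OO n k (-e)) (ClSub.idealMod I)) 1) := by
    refine K715.NormalH.hh_homSheaf_OO (-e) e (neg_neg e) 1 ?_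
    rw [← Sga67.TwistProj.hh_iff]
    exact Fga.HShift.subsingleton_of_iso (Ega2.Tens.swap _ _) 1 hH
  have h5 := CohqB.TwistMono.surjective_of_H1 h1 h4
  obtain ⟨s, hs⟩ := h5 ((topEquiv _ _).symm ψ)
  refine ⟨topEquiv _ _ s, ?_⟩
  rw [← (topEquiv _ _).apply_symm_apply ψ, ← hs]
  rfl

end K560.FormMaps
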