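import Groth.Agent.Fano.K714.RatDef
import Groth.Agent.Fano.K715.NormalH
import Groth.Agent.Sga2.PnCoprod
import Groth.Agent.FormalB.HHLes
import Groth.Agent.Fga.MumInputs
import Groth.Agent.ProjAut.K654.PnAut
import Groth.Agent.Omega.K935.SmoothImm
import Groth.Agent.Variety.K433.HqBase
import Groth.Prelude.Def_Mor2
import Groth.Prelude.Def_DCoh4

/-!
# Cohomology of the normal sheaf of a `P^1` with split conormal sheaf
-/

set_option autoImplicit false
universe u
open CategoryTheory CategoryTheory.Limits AlgebraicGeometry TopologicalSpace Opposite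

namespace K560.NormP1

open Groth.Agent Groth.Agent.Sga2.PnHomAdj Groth.Agent.CohqB.HomSheaf Groth.Agent.Sga2.PnTwHom
open Groth.Agent.Sga67.TwistProj K433.Hq Groth.Agent.Sga2.PnHomExact Groth.Agent.FormalA

variable {k : Type u} [Field k]

/-- `H^q` of a split sequence. -/
noncomputable def hhSplit {X : Scheme.{u}} [X.Over (Spec (CommRingCat.of k))] {T : ShortComplex X.Modules}
    (s : T.Splitting) (q : ℕ) : Coh.HH X T.X₂ q ≃ₗ[k] Coh.HH X T.X₁ q × Coh.HH X T.X₃ q :=
  LinearEquiv.ofLinearMap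
    ((HHLin.HHmap k s.r q).prod (HHLin.HHmap k T.g q))
    ((HHLin.HHmap k T.f q).coprod (HHLin.HHmap k s.s q))
    (by
      apply LinearMap.prod_ext
      · ext x
        · change HHLin.HHmap k s.r q (HHLin.HHmap k T.f q x + HHLin.HHmap k s.s q 0) = x
          rw [map_zero, add_zero, HHLin.HHmap_comp_apply, s.f_r, HHLin.HHmap_id]
          rfl
        · change HHLin.HHmap k T.g q (HHLin.HHmap k T.f q x + HHLin.HHmap k s.s q 0) = 0
          rw [map_zero, add_zero, HHLin.HHmap_comp_apply, T.zero, FormalB.HHLes.HHmap_zero]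
          rfl
      · ext x
        · change HHLin.HHmap k s.r q (HHLin.HHmap k T.f q 0 + HHLin.HHmap k s.s q x) = 0
          rw [map_zero, zero_add, HHLin.HHmap_comp_apply, s.s_r, FormalB.HHLes.HHmap_zero]
          rfl
        · change HHLin.HHmap k T.g q (HHLin.HHmap k T.f q 0 + HHLin.HHmap k s.s q x) = x
          rw [map_zero, zero_add, HHLin.HHmap_comp_apply, s.s_g, HHLin.HHmap_id]
          rfl)
    (by
      ext x
      change HHLin.HHmap k T.f q (HHLin.HHmap k s.r q x) + HHLin.HHmap k s.s q (HHLin.HHmap k T.g q x) = x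
      rw [HHLin.HHmap_comp_apply, HHLin.HHmap_comp_apply, ← LinearMap.add_apply, ← FormalB.HHLes.HHmap_add, s.id, HHLin.HHmap_id]
      rfl)

theorem hh_split {X : Scheme.{u}} [X.Over (Spec (CommRingCat.of k))] {T : ShortComplex X.Modules}
    (s : T.Splitting) (q : ℕ) [Module.Finite k (Coh.HH X T.X₁ q)] [Module.Finite k (Coh.HH X T.X₃ q)] :
    hh k T.X₂ q = hh k T.X₁ q + hh k T.X₃ q := by
  rw [hh_def, hh_def, hh_def, (hhSplit s q).finrank_eq, Module.finrank_prod]

/-- a coproduct over `Fin 2` -/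
noncomputable def coprodTwo {X : Scheme.{u}} (L : Fin 2 → X.Modules) : (∐ L) ≅ L 0 ⊞ L 1 where
  hom := Sigma.desc (fun j => match j with
    | 0 => biprod.inl
    | 1 => biprod.inr)
  inv := biprod.desc (Sigma.ι L 0) (Sigma.ι L 1)
  hom_inv_id := by
    refine Sigma.hom_ext _ _ fun j => ?_
    rw [Sigma.ι_desc_assoc, Category.comp_id]
    fin_cases j
    · exact biprod.inl_desc _ _
    · exact biprod.inr_desc _ _
  inv_hom_id := by
    refine biprod.hom_ext' _ _ ?_ ?_
    · rw [biprod.inl_desc_assoc, Sigma.ι_desc, Category.comp_id]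
    · rw [biprod.inr_desc_assoc, Sigma.ι_desc, Category.comp_id]

/-- The split sequence `0 → Hom(L₁, M) → Hom(L₀ ⊞ L₁, M) → Hom(L₀, M) → 0`. -/
noncomputable def splitSeq {X : Scheme.{u}} (A B : X.Modules) (M : X.Modules) :=
  (ShortComplex.Splitting.ofHasBinaryBiproduct A B).op.map (homFL M)

theorem hh_homSheaf_biprod {X : Scheme.{u}} [X.Over (Spec (CommRingCat.of k))] (A B : X.Modules) (M : X.Modules)
    (q : ℕ) [Module.Finite k (Coh.HH X (homSheaf A M) q)] [Module.Finite k (Coh.HH X (homSheaf B M) q)] :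
    hh k (homSheaf (A ⊞ B) M) q = hh k (homSheaf A M) q + hh k (homSheaf B M) q := by
  have := @hh_split k _ X _ _ (splitSeq A B M) q
    (inferInstanceAs (Module.Finite k (Coh.HH X (homSheaf B M) q)))
    (inferInstanceAs (Module.Finite k (Coh.HH X (homSheaf A M) q)))
  rw [add_comm]
  exact this

/-- `Hom(O(a), O) = O(-a)` -/
noncomputable def homO (n : ℕ) (a c : ℤ) (h : 0 - a = c) :
    homSheaf (Twist.twistProjSpace n k a) (Coh.structureModule (CohB1.ProjSpace n k)) ≅ Twist.twistProjSpace n k c :=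
  (homF (Twist.twistProjSpace n k a)).mapIso (asIso (K715.Res.unitO n k)) ≪≫ homSheafTw n k a 0 c h

theorem hh_twist (a : ℤ) (ha : -1 ≤ a) : (hh k (Twist.twistProjSpace 1 k a) 0 : ℤ) = a + 1 := by
  rw [hh_def]
  obtain h | ⟨m, rfl⟩ : a = -1 ∨ ∃ m : ℕ, a = m := by
    rcases Int.lt_or_le a 0 with h | h
    · left; omega
    · right; exact ⟨a.toNat, (Int.toNat_of_nonneg h).symm⟩
  · have := S0844.result k 1 a 0 (by omega) (by omega)
    rw [Module.finrank_zero_of_subsingleton, h]
    rfl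
  · rw [K654.AutPn.finrank_twist_nat, Nat.choose_one_right]
    push_cast
    ring

/-- The cohomology of the normal sheaf of a closed immersion of `P^1` with split conormal sheaf. -/
theorem normal {X : Scheme.{u}} (i : CohB1.ProjSpace 1 k ⟶ X) (a : Fin 2 → ℤ) (ha : ∀ j, a j ≤ 1)
    (e : Nonempty (Omega.conormal i ≅ ∐ fun j : Fin 2 => Twist.twistProjSpace 1 k (a j))) :
    Subsingleton (Coh.HH (CohB1.ProjSpace 1 k)
        ((DCoh.sheafHom (Omega.conormal i)).obj (Coh.structureModule (CohB1.ProjSpace 1 k))) 1) ∧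
      ((Module.finrank k (Coh.HH (CohB1.ProjSpace 1 k)
        ((DCoh.sheafHom (Omega.conormal i)).obj (Coh.structureModule (CohB1.ProjSpace 1 k))) 0) : ℕ) : ℤ) =
        2 - a 0 - a 1 := by
  obtain ⟨e⟩ := e
  let O := Coh.structureModule (CohB1.ProjSpace 1 k)
  let E := (homFL O).mapIso (e ≪≫ coprodTwo _).symm.op
  let F := (sheafHomIso (Omega.conormal i)).app O ≪≫ E
  have h0 := homO (k := k) 1 (a 0) (-a 0) (by ring)
  have h1 := homO (k := k) 1 (a 1) (-a 1) (by ring)
  constructor
  · refine Fga.HShift.subsingleton_of_iso F.symm 1 ?_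
    have s0 : Subsingleton (Coh.HH (CohB1.ProjSpace 1 k) (homSheaf (Twist.twistProjSpace 1 k (a 0)) O) 1) :=
      Fga.HShift.subsingleton_of_iso h0.symm 1 (S0844.result k 1 (-a 0) 1 (by omega) (by have := ha 0; omega))
    have s1 : Subsingleton (Coh.HH (CohB1.ProjSpace 1 k) (homSheaf (Twist.twistProjSpace 1 k (a 1)) O) 1) :=
      Fga.HShift.subsingleton_of_iso h1.symm 1 (S0844.result k 1 (-a 1) 1 (by omega) (by have := ha 1; omega))
    exact K715.NormalH.hh_homSheaf_biprod 1 s0 s1
  · have f0 : Module.Finite k (Coh.HH (CohB1.ProjSpace 1 k) (homSheaf (Twist.twistProjSpace 1 k (a 0)) O) 0) := by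
      have := (Fga.MumInputs.finite_twist k 1 (-a 0)).1
      exact Module.Finite.equiv (Fga.PicMon.hmapEquiv k _ h0.symm 0)
    have f1 : Module.Finite k (Coh.HH (CohB1.ProjSpace 1 k) (homSheaf (Twist.twistProjSpace 1 k (a 1)) O) 0) := by
      have := (Fga.MumInputs.finite_twist k 1 (-a 1)).1
      exact Module.Finite.equiv (Fga.PicMon.hmapEquiv k _ h1.symm 0)
    rw [← hh_def, hh_iso k F 0]
    change ((hh k (homSheaf (Twist.twistProjSpace 1 k (a 0) ⊞ Twist.twistProjSpace 1 k (a 1)) O) 0 : ℕ) : ℤ) = _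
    rw [hh_homSheaf_biprod, hh_iso k h0, hh_iso k h1]
    push_cast
    rw [hh_twist _ (by have := ha 0; omega), hh_twist _ (by have := ha 1; omega)]
    ring

end K560.NormP1
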