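import Groth.Agent.Fano.K560.ConSeq
import Groth.Agent.Fano.K560.QuartAlg
import Groth.Agent.Fano.K560.RegPt
import Groth.Agent.Fano.K276.QuartUniv
import Groth.Agent.SDiv.K473.RegImmCalc
import Groth.Agent.RegImm.K560.Stalk

/-!
# The Hilbert scheme of a smooth cubic threefold at the elliptic quartics `V_+(v₀, M₁, M₂)`

`regular_quart`: regular of dimension 8.
-/

set_option autoImplicit false

universe u

open CategoryTheory CategoryTheory.Limits AlgebraicGeometry TopologicalSpace Opposite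

namespace K560.QuartReg

open LefPen Groth.Agent.Fano.K714.Rat Groth.Agent.Fano.K714.Quart Groth.Agent
open Groth.Agent.CohqB.HomSheaf Groth.Agent.Sga2.PnHomAdj

variable {k : Type u} [Field k]

/-- degrees of the equations -/
def dG : Fin 3 → ℕ
  | 0 => 1
  | 1 => 2
  | 2 => 2

/-- degrees of the cofactors -/
def dC : Fin 3 → ℕ
  | 0 => 2
  | 1 => 1
  | 2 => 1

/-- the equations -/
noncomputable def eG (q : Data k) : ∀ j : Fin 3, Form 4 k (dG j)
  | 0 => lin (q.1 0)
  | 1 => quad (q.2 1)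
  | 2 => quad (q.2 2)

/-- the cofactors -/
noncomputable def eC (q : Data k) : ∀ j : Fin 3, Form 4 k (dC j)
  | 0 => quad (q.2 0)
  | 1 => lin (q.1 1)
  | 2 => lin (q.1 2)

theorem hD (j : Fin 3) : 3 = dC j + dG j := by
  match j with
  | 0 => rfl
  | 1 => rfl
  | 2 => rfl

theorem one_le_dG (j : Fin 3) : 1 ≤ dG j := by
  match j with
  | 0 => exact le_rfl
  | 1 => exact Nat.le_succ 1
  | 2 => exact Nat.le_succ 1

theorem cI_eq (q : Data k) : cI q = ciIdeal (eG q) := by
  rw [cI, ciIdeal]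
  apply le_antisymm
  · refine sup_le (sup_le ?_ ?_) ?_
    · exact le_iSup (fun j => hypIdeal (eG q j)) 0
    · exact le_iSup (fun j => hypIdeal (eG q j)) 1
    · exact le_iSup (fun j => hypIdeal (eG q j)) 2
  · refine iSup_le fun j => ?_
    match j with
    | 0 => exact le_sup_left.trans le_sup_left
    | 1 => exact le_sup_right.trans le_sup_left
    | 2 => exact le_sup_right

theorem sum_eq (f : Form 4 k 3) (q : Data k) (hq : q ∈ Sol f) : f.1 = ∑ i, (eC q i).1 * (eG q i).1 := by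
  rw [hq.2, Fin.sum_univ_three, Fin.sum_univ_three]
  change _ = (quad (q.2 0)).1 * (lin (q.1 0)).1 + (lin (q.1 1)).1 * (quad (q.2 1)).1 +
    (lin (q.1 2)).1 * (quad (q.2 2)).1
  ring

theorem halg [IsAlgClosed k] (f : Form 4 k 3) (hf : f ≠ 0) [Smooth (ps f)] (q : Data k) (hq : q ∈ Sol f)
    (g : Form 4 k 3) : ∃ (a : ∀ i, Form 4 k (dG i)) (b : ∀ i, Form 4 k (dC i)),
      g.1 = ∑ i, (eC q i).1 * (a i).1 + ∑ i, (b i).1 * (eG q i).1 := by
  obtain ⟨a, l, h⟩ := QuartAlg.exists_decomp f hf q hq g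
  refine ⟨fun i => match i with
    | 0 => l 0
    | 1 => a 1
    | 2 => a 2, fun i => match i with
    | 0 => a 0
    | 1 => l 1
    | 2 => l 2, ?_⟩
  rw [h]
  simp only [Fin.sum_univ_three]
  change _ = ((quad (q.2 0)).1 * (l 0).1 + (lin (q.1 1)).1 * (a 1).1 + (lin (q.1 2)).1 * (a 2).1) +
    ((a 0).1 * (lin (q.1 0)).1 + (l 1).1 * (quad (q.2 1)).1 + (l 2).1 * (quad (q.2 2)).1)
  ring

theorem regular_quart [IsAlgClosed k] (f : LefPen.Form 4 k 3) (hf : f ≠ 0) [Smooth (ps f)]
    (H : Over (Spec (CommRingCat.of k))) (Z : FGA.HilbSet (ps f) H)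
    (hH : FGA.HilbRepresentedBy (ps f) H Z) (q : Data k) (hq : q ∈ Sol f) (hgood : Good q)
    (x : ↥H.left) (hx : IsClassQ f H Z q x) :
    IsRegularLocalRing (H.left.presheaf.stalk x) ∧ ringKrullDim (H.left.presheaf.stalk x) = 8 := by
  obtain ⟨h, rfl, hh⟩ := hx
  unfold Good at hgood
  rw [cI_eq] at hgood hh
  obtain ⟨hsm, hdim⟩ := hgood
  set G := eG q with hG
  have hdim' : topologicalKrullDim ↥(ciIdeal G).subscheme ≤ ((4 - 3 : ℕ) : WithBot ℕ∞) := hdim.le
  have hreg := Coherent.K51.CIReg.isReg_of_dim G (by omega) one_le_dG hdim'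
  have hgd := Coherent.K51.CIGood.good_ci 3 (by omega) _ G hreg
  have hnice := CICoh.nice_ci (by omega) 3 (by omega) _ G hreg
  -- the embedding
  have hle : (emb f).ker ≤ (ciIdeal G).subschemeι.ker := by
    rw [Scheme.IdealSheafData.ker_subschemeι, Scheme.IdealSheafData.ker_subschemeι]
    refine Groth.Agent.Fano.K276.QuartUniv.rhypIdeal_le f G ?_
    rw [sum_eq f q hq]
    exact Ideal.sum_mem _ fun j _ => Ideal.mul_mem_left _ _ (Ideal.subset_span ⟨j, rfl⟩)
  let i : (ciIdeal G).subscheme ⟶ Xf f := IsClosedImmersion.lift (emb f) (ciIdeal G).subschemeι hle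
  have hi : i ≫ emb f = (ciIdeal G).subschemeι := IsClosedImmersion.lift_fac _ _ _
  have hcl : IsClosedImmersion i := by
    have h1 : IsClosedImmersion (i ≫ emb f) := by rw [hi]; infer_instance
    exact IsClosedImmersion.of_comp i (emb f)
  have hker : i.ker = (ciIdeal G).comap (emb f) := by
    have h3 : IsPullback (𝟙 _) i (ciIdeal G).subschemeι (emb f) :=
      IsPullback.of_horiz_isIso_mono ⟨by rw [hi]; simp⟩
    rw [Groth.Agent.Fga.HilbClosed.ker_of_isPullback h3, Scheme.IdealSheafData.ker_subschemeι]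
  let : (ciIdeal G).subscheme.Over (Spec (CommRingCat.of k)) :=
    ⟨(ciIdeal G).subschemeι ≫ CohB1.ProjSpace.toSpec 4 k⟩
  have hip : i ≫ ps f = (ciIdeal G).subscheme ↘ Spec (CommRingCat.of k) := by
    change i ≫ emb f ≫ CohB1.ProjSpace.toSpec 4 k = (ciIdeal G).subschemeι ≫ CohB1.ProjSpace.toSpec 4 k
    rw [← hi, Category.assoc]
  have hsm' : Smooth (i ≫ ps f) := by
    rw [hip]
    exact hsm
  have hri := K935.SmoothImm.isRegularClosedImmersion i (ps f)
  have hri' : RegImm.IsRegularImmersion RegImm.Kind.h1 i :=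
    K473.RegImmCalc.isRegularImmersion_mono_kind (fun _ h ↦ K473.SeqFlat.h1_of_koszul h)
      (K473.RegImmCalc.isRegularImmersion_mono_kind (fun _ h ↦ K473.SeqFlat.koszul_of_regular h)
        ((K560.Stalk.isRegularImmersion_iff_of_isClosedImmersion i).mpr hri))
  have hsh := Groth.Agent.Sga2.PnHomAdj.hasSheafHom (Omega.conormal i)
  -- cohomology
  have hH3 := ConSeq.h1_ideal (ciIdeal G) (3 : ℤ) (S0844.result k 4 3 1 (by omega) (by omega)) (hgd.surj (by omega) 3)
  have hc : ∀ a : Fin 3, (-(((4 : ℕ) : ℤ) + 1) + ∑ j, (dG j : ℤ)) < (dG a : ℤ) := by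
    intro a
    rw [Fin.sum_univ_three]
    match a with
    | 0 => decide
    | 1 => decide
    | 2 => decide
  have key := ConSeq.normal G (eC q) f hD (sum_eq f q hq) hf hdim' (by omega) (halg f hf q hq) hH3 i hi hri'
    (fun a => hnice.top (dG a) (hc a)) (fun a => hnice.fin (dG a))
  have hn : ∀ d : ℤ, (Module.finrank k (Coh.HH (ciIdeal G).subscheme
      ((Scheme.Modules.pullback (ciIdeal G).subschemeι).obj (Twist.twistProjSpace 4 k d)) 0) : ℤ) =
      CICoh.hfun 4 dG d := hnice.eq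
  have e1 : CICoh.hfun 4 dG 1 = 4 := by decide
  have e2 : CICoh.hfun 4 dG 2 = 8 := by decide
  have e3 : CICoh.hfun 4 dG ((3 : ℕ) : ℤ) = 12 := by decide
  let E := (sheafHomIso (Omega.conormal i)).app (Coh.structureModule (ciIdeal G).subscheme)
  have h1 : Subsingleton (Coh.HH (ciIdeal G).subscheme ((DCoh.sheafHom (Omega.conormal i)).obj
      (Coh.structureModule (ciIdeal G).subscheme)) 1) :=
    (VarietyA.EulerLES.equivA k E 1).toEquiv.subsingleton_congr.mpr key.1
  have h2 : Module.finrank k (Coh.HH (ciIdeal G).subscheme ((DCoh.sheafHom (Omega.conormal i)).obj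
      (Coh.structureModule (ciIdeal G).subscheme)) 0) = 8 := by
    rw [(VarietyA.EulerLES.equivA k E 0).finrank_eq]
    have h4 := key.2
    rw [Fin.sum_univ_three] at h4
    have n0 := hn 1
    have n1 := hn 2
    have n3 := hn ((3 : ℕ) : ℤ)
    rw [e1] at n0
    rw [e2] at n1
    rw [e3] at n3
    change Module.finrank k (Coh.HH (ciIdeal G).subscheme ((Scheme.Modules.pullback
      (ciIdeal G).subschemeι).obj (Twist.twistProjSpace 4 k 1)) 0) + Module.finrank k
      (Coh.HH (ciIdeal G).subscheme ((Scheme.Modules.pullback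
      (ciIdeal G).subschemeι).obj (Twist.twistProjSpace 4 k 2)) 0) + Module.finrank k
      (Coh.HH (ciIdeal G).subscheme ((Scheme.Modules.pullback
      (ciIdeal G).subschemeι).obj (Twist.twistProjSpace 4 k 2)) 0) = _ + Module.finrank k
      (Coh.HH (ciIdeal G).subscheme ((Scheme.Modules.pullback
      (ciIdeal G).subschemeι).obj (Twist.twistProjSpace 4 k ((3 : ℕ) : ℤ))) 0) at h4
    change Module.finrank k (Coh.HH (ciIdeal G).subscheme (homSheaf (Omega.conormal i)
      (Coh.structureModule (ciIdeal G).subscheme)) 0) = 8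
    omega
  have h3 := RegPt.regular_of i (ps f) hip H Z hH hri h1 h (by rw [hker]; exact hh)
  refine ⟨h3.1, h3.2.trans ?_⟩
  rw [h2]
  rfl

end K560.QuartReg
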